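/-
Multiplicities of the characters of an abelian subgroup in a representation, and averages over subgroups.
-/
import Mathlib
import Cfsg.Agent.Lib.Known.D4Degree.AbelChar

set_option autoImplicit false
set_option linter.unusedSectionVars false
set_option linter.style.haveILetI false

namespace CfsgLib.Known.G2Degree

open CfsgLib.Known.D4Degree

variable {G : Type*} [Group G] {V : Type*} [AddCommGroup V] [Module ℂ V] [FiniteDimensional ℂ V]
  (ρ : Representation ℂ G V)

theorem rho_cancel (g : G) (v : V) : ρ g⁻¹ (ρ g v) = v := by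
  rw [← Module.End.mul_apply, ← map_mul, inv_mul_cancel, map_one, Module.End.one_apply]

theorem rho_cancel' (g : G) (v : V) : ρ g (ρ g⁻¹ v) = v := by
  rw [← Module.End.mul_apply, ← map_mul, mul_inv_cancel, map_one, Module.End.one_apply]

theorem rho_ne (g : G) {v : V} (hv : v ≠ 0) : ρ g v ≠ 0 := fun h => hv (by
  rw [← rho_cancel ρ g v, h, map_zero])

theorem rho_mul (g h : G) (v : V) : ρ (g * h) v = ρ g (ρ h v) := by
  rw [map_mul, Module.End.mul_apply]

/-- An eigenvector of `x` is carried to an eigenvector of its conjugate. -/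
theorem eigen_conj {g x y : G} (h : g * x * g⁻¹ = y) {v : V} {c : ℂ} (hv : ρ x v = c • v) :
    ρ y (ρ g v) = c • ρ g v := by
  rw [← h, rho_mul, rho_cancel, rho_mul, hv, map_smul]

section Abelian

variable {A : Type*} [AddCommGroup A] [Fintype A] (f : A → G) (hf : ∀ a b, f (a + b) = f a * f b)

/-- The operators of an abelian subgroup. -/
noncomputable def op (a : A) : Module.End ℂ V := ρ (f a)

/-- The projection onto the eigenspace of a character. -/
noncomputable def pr (χ : AddChar A ℂ) : Module.End ℂ V := proj (op ρ f) χ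

/-- The multiplicity of a character. -/
noncomputable def mu (χ : AddChar A ℂ) : ℕ := mult (op ρ f) χ

include hf

theorem f_zero : f 0 = 1 := by
  have := hf 0 0
  rwa [add_zero, left_eq_mul] at this

theorem op_add (a b : A) : op ρ f a * op ρ f b = op ρ f (a + b) := by
  rw [op, op, op, hf, map_mul]

theorem op_zero : op ρ f (0 : A) = 1 := by rw [op, f_zero f hf, map_one]

theorem sum_mu : ∑ χ, mu ρ f χ = Module.finrank ℂ V := sum_mult (op_add ρ f hf) (op_zero ρ f hf)

theorem eigen_pr (χ : AddChar A ℂ) (v : V) (a : A) : ρ (f a) (pr ρ f χ v) = χ a • pr ρ f χ v := by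
  have := LinearMap.congr_fun (mul_proj (op_add ρ f hf) χ a) v
  simpa [op, pr] using this

theorem pr_idem (χ : AddChar A ℂ) (v : V) : pr ρ f χ (pr ρ f χ v) = pr ρ f χ v :=
  LinearMap.congr_fun (proj_idem (op_add ρ f hf) χ) v

theorem pr_of_eigen [DecidableEq (AddChar A ℂ)] {χ' : AddChar A ℂ} {v : V}
    (hv : ∀ a, ρ (f a) v = χ' a • v) (χ : AddChar A ℂ) :
    pr ρ f χ v = if χ = χ' then v else 0 := by
  have hne : (Fintype.card A : ℂ) ≠ 0 := by simp [Fintype.card_ne_zero]
  have e : ∀ a, χ (-a) * χ' a = (χ⁻¹ * χ') a := fun a => by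
    rw [AddChar.mul_apply, AddChar.inv_apply]
  classical
  simp only [pr, proj, LinearMap.smul_apply, LinearMap.sum_apply, op, hv, smul_smul, e,
    ← Finset.sum_smul, AddChar.sum_eq_ite]
  by_cases h : χ = χ'
  · subst h
    rw [if_pos (by rw [inv_mul_cancel, AddChar.one_eq_zero]), if_pos rfl, inv_mul_cancel₀ hne,
      one_smul]
  · rw [if_neg (fun h0 => h ?_), if_neg h, mul_zero, zero_smul]
    rw [← AddChar.one_eq_zero] at h0
    exact inv_mul_eq_one.1 h0

theorem sum_pr (v : V) : ∑ χ, pr ρ f χ v = v := by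
  have := LinearMap.congr_fun (sum_proj (R := op ρ f) (op_zero ρ f hf)) v
  simpa [pr] using this

theorem pr_pr [DecidableEq (AddChar A ℂ)] (χ χ' : AddChar A ℂ) (v : V) :
    pr ρ f χ (pr ρ f χ' v) = if χ = χ' then pr ρ f χ' v else 0 :=
  pr_of_eigen ρ f hf (eigen_pr ρ f hf χ' v) χ

theorem pr_eq_zero {χ : AddChar A ℂ} (h : mu ρ f χ = 0) (v : V) : pr ρ f χ v = 0 :=
  LinearMap.congr_fun (proj_eq_zero h) v

theorem exists_vec {χ : AddChar A ℂ} (h : mu ρ f χ ≠ 0) :
    ∃ v : V, v ≠ 0 ∧ ∀ a, ρ (f a) v = χ a • v := by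
  obtain ⟨w, hw⟩ : ∃ w, pr ρ f χ w ≠ 0 := by
    by_contra! h0
    refine h ?_
    have : pr ρ f χ = 0 := LinearMap.ext h0
    simp only [mu, mult, pr] at this ⊢
    rw [this, LinearMap.range_zero, finrank_bot]
  exact ⟨_, hw, eigen_pr ρ f hf χ w⟩

theorem mem_range {χ : AddChar A ℂ} {v : V} (hv : ∀ a, ρ (f a) v = χ a • v) :
    v ∈ LinearMap.range (pr ρ f χ) := by
  classical
  exact ⟨v, by rw [pr_of_eigen ρ f hf hv, if_pos rfl]⟩

theorem mu_pos {χ : AddChar A ℂ} {v : V} (hv0 : v ≠ 0) (hv : ∀ a, ρ (f a) v = χ a • v) :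
    1 ≤ mu ρ f χ := by
  refine Nat.one_le_iff_ne_zero.2 fun h => hv0 ?_
  classical
  have := pr_eq_zero ρ f hf h v
  rwa [pr_of_eigen ρ f hf hv, if_pos rfl] at this

/-- If only the trivial character occurs the subgroup acts trivially. -/
theorem fix_of_mu (h : ∀ χ, χ ≠ 0 → mu ρ f χ = 0) (a : A) (v : V) : ρ (f a) v = v := by
  conv_lhs => rw [← sum_pr ρ f hf v]
  rw [map_sum]
  refine (Finset.sum_congr rfl fun χ _ => ?_).trans (sum_pr ρ f hf v)
  rw [eigen_pr ρ f hf]
  by_cases hχ : χ = 0
  · rw [hχ, AddChar.zero_apply, one_smul]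
  · rw [pr_eq_zero ρ f hf (h χ hχ), smul_zero]

/-- Distinct characters on non-zero vectors of a subspace bound its dimension. -/
theorem card_le {ι : Type*} [Fintype ι] {v : ι → V} {χ : ι → AddChar A ℂ} (hinj : Function.Injective χ)
    (hne : ∀ i, v i ≠ 0) (hv : ∀ i a, ρ (f a) (v i) = χ i a • v i) {W : Submodule ℂ V}
    (hW : ∀ i, v i ∈ W) : Fintype.card ι ≤ Module.finrank ℂ W := by
  classical
  have hli : LinearIndependent ℂ v := Fintype.linearIndependent_iff.2 fun c hc i => by
    have := congrArg (pr ρ f (χ i)) hc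
    simp only [map_sum, map_smul, map_zero, pr_of_eigen ρ f hf (hv _)] at this
    rw [Finset.sum_eq_single i (fun j _ hj => by rw [if_neg fun e => hj (hinj e.symm), smul_zero])
      (by simp), if_pos rfl] at this
    exact (smul_eq_zero.1 this).resolve_right (hne i)
  rw [← finrank_span_eq_card hli]
  exact Submodule.finrank_mono (Submodule.span_le.2 (by rintro _ ⟨i, rfl⟩; exact hW i))

/-- An element normalising the subgroup permutes the multiplicities. -/
theorem mu_move (g : G) (e : A ≃+ A) (he : ∀ a, g * f a * g⁻¹ = f (e a))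
    {χ χ' : AddChar A ℂ} (hχ : ∀ a, χ a = χ' (e a)) : mu ρ f χ = mu ρ f χ' :=
  mult_congr (op_add ρ f hf) (S := ρ g) (T := ρ g⁻¹) (by rw [← map_mul]; simp)
    (by rw [← map_mul]; simp) (conj_proj (T := ρ g⁻¹) (by rw [← map_mul]; simp) e.bijective
      (fun a => by rw [op, op, ← map_mul, ← map_mul, he]) χ χ' fun a => by rw [hχ, map_neg])

/-- The multiplicities on a smaller subgroup are sums of the multiplicities. -/
theorem mu_marginal {A' : Type*} [AddCommGroup A'] [Fintype A'] (j : A' →+ A) (χ' : AddChar A' ℂ)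
    [DecidablePred fun χ : AddChar A ℂ => χ.compAddMonoidHom j = χ'] :
    mu ρ (fun a => f (j a)) χ' =
      ∑ χ ∈ Finset.univ.filter (fun χ : AddChar A ℂ => χ.compAddMonoidHom j = χ'), mu ρ f χ := by
  classical
  have hf' : ∀ a b : A', f (j (a + b)) = f (j a) * f (j b) := fun a b => by rw [map_add, hf]
  have e : pr ρ (fun a => f (j a)) χ' =
      ∑ χ ∈ Finset.univ.filter (fun χ : AddChar A ℂ => χ.compAddMonoidHom j = χ'), pr ρ f χ := by
    refine LinearMap.ext fun v => ?_
    conv_lhs => rw [← sum_pr ρ f hf v]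
    rw [map_sum, LinearMap.sum_apply, Finset.sum_filter]
    refine Finset.sum_congr rfl fun χ _ => ?_
    rw [pr_of_eigen ρ (fun a => f (j a)) hf' (χ' := χ.compAddMonoidHom j)
      (fun a => eigen_pr ρ f hf χ v (j a))]
    exact if_congr eq_comm rfl rfl
  have h := congrArg (LinearMap.trace ℂ V) e
  rw [map_sum] at h
  simp only [pr, trace_proj (op_add ρ f hf), trace_proj (op_add ρ (fun a => f (j a)) hf')] at h
  exact_mod_cast h

end Abelian

section Average

variable [Fintype G]

/-- The average over a subgroup. -/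
noncomputable def avg (H : Subgroup G) : Module.End ℂ V :=
  letI := Fintype.ofFinite H
  (Fintype.card H : ℂ)⁻¹ • ∑ h : H, ρ (h : G)

theorem avg_apply_fixed {H : Subgroup G} {v : V} (hv : ∀ h ∈ H, ρ h v = v) : avg ρ H v = v := by
  letI := Fintype.ofFinite H
  simp only [avg, LinearMap.smul_apply, LinearMap.sum_apply, hv _ (SetLike.coe_mem _),
    Finset.sum_const, Finset.card_univ, ← Nat.cast_smul_eq_nsmul ℂ, smul_smul]
  rw [inv_mul_cancel₀ (by simp [Fintype.card_ne_zero]), one_smul]

theorem rho_avg {H : Subgroup G} {h : G} (hh : h ∈ H) (v : V) : ρ h (avg ρ H v) = avg ρ H v := by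
  letI := Fintype.ofFinite H
  simp only [avg, LinearMap.smul_apply, LinearMap.sum_apply, map_smul, map_sum, ← rho_mul]
  congr 1
  exact Fintype.sum_equiv (Equiv.mulLeft (⟨h, hh⟩ : H)) _ _ fun x => rfl

theorem avg_rho {H : Subgroup G} {h : G} (hh : h ∈ H) (v : V) : avg ρ H (ρ h v) = avg ρ H v := by
  letI := Fintype.ofFinite H
  simp only [avg, LinearMap.smul_apply, LinearMap.sum_apply, ← rho_mul]
  congr 1
  exact Fintype.sum_equiv (Equiv.mulRight (⟨h, hh⟩ : H)) _ _ fun x => rfl

/-- The average commutes with the elements normalising the subgroup. -/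
theorem avg_conj {H : Subgroup G} {g : G} (hg : ∀ h ∈ H, g * h * g⁻¹ ∈ H) (v : V) :
    avg ρ H (ρ g v) = ρ g (avg ρ H v) := by
  letI := Fintype.ofFinite H
  simp only [avg, LinearMap.smul_apply, LinearMap.sum_apply, map_smul, map_sum, ← rho_mul]
  congr 1
  symm
  refine Fintype.sum_bijective (fun x : H => (⟨g * x * g⁻¹, hg x x.2⟩ : H)) ?_ _ _ fun x => ?_
  · refine Finite.injective_iff_bijective.1 fun a b hab => Subtype.ext ?_
    simpa using congrArg Subtype.val hab
  · simp [mul_assoc]

/-- Being fixed by generators suffices. -/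
theorem fixed_closure {S : Set G} {v : V} (hv : ∀ g ∈ S, ρ g v = v) :
    ∀ h ∈ Subgroup.closure S, ρ h v = v := by
  intro h hh
  induction hh using Subgroup.closure_induction with
  | mem x hx => exact hv x hx
  | one => rw [map_one, Module.End.one_apply]
  | mul x y _ _ hx hy => rw [rho_mul, hy, hx]
  | inv x _ hx =>
    conv_lhs => rw [← hx]
    exact rho_cancel ρ x v

end Average

end CfsgLib.Known.G2Degree
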