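/-
Characters of small powers of a finite field, indexed by coefficient vectors; lines and their scalars.
-/
import Mathlib
import Cfsg.Agent.Lib.Known.G2Degree.Rep

set_option autoImplicit false
set_option linter.unusedSectionVars false

namespace CfsgLib.Known.G2Degree

variable {K : Type*} [Field K] [Fintype K] (ψ : AddChar K ℂ)

/-- The character with coefficient vector `c` on pairs. -/
noncomputable def ch2 (c : K × K) : AddChar (K × K) ℂ where
  toFun p := ψ (c.1 * p.1 + c.2 * p.2)
  map_zero_eq_one' := by simp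
  map_add_eq_mul' p p' := by
    rw [← AddChar.map_add_eq_mul]; congr 1; simp only [Prod.fst_add, Prod.snd_add]; ring

/-- The character with coefficient vector `c` on triples. -/
noncomputable def ch3 (c : K × K × K) : AddChar (K × K × K) ℂ where
  toFun p := ψ (c.1 * p.1 + c.2.1 * p.2.1 + c.2.2 * p.2.2)
  map_zero_eq_one' := by simp
  map_add_eq_mul' p p' := by
    rw [← AddChar.map_add_eq_mul]; congr 1; simp only [Prod.fst_add, Prod.snd_add]; ring

/-- The character with coefficient vector `c` on quadruples. -/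
noncomputable def ch4 (c : K × K × K × K) : AddChar (K × K × K × K) ℂ where
  toFun p := ψ (c.1 * p.1 + c.2.1 * p.2.1 + c.2.2.1 * p.2.2.1 + c.2.2.2 * p.2.2.2)
  map_zero_eq_one' := by simp
  map_add_eq_mul' p p' := by
    rw [← AddChar.map_add_eq_mul]; congr 1; simp only [Prod.fst_add, Prod.snd_add]; ring

theorem ch2_apply (c p : K × K) : ch2 ψ c p = ψ (c.1 * p.1 + c.2 * p.2) := rfl

theorem ch3_apply (c p : K × K × K) :
    ch3 ψ c p = ψ (c.1 * p.1 + c.2.1 * p.2.1 + c.2.2 * p.2.2) := rfl

theorem ch4_apply (c p : K × K × K × K) :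
    ch4 ψ c p = ψ (c.1 * p.1 + c.2.1 * p.2.1 + c.2.2.1 * p.2.2.1 + c.2.2.2 * p.2.2.2) := rfl

variable {ψ} (hψ : ψ ≠ 1)
include hψ

theorem eq_of_char {a b : K} (h : ∀ x, ψ (a * x) = ψ (b * x)) : a = b :=
  AddChar.to_mulShift_inj_of_isPrimitive (AddChar.IsPrimitive.of_ne_one hψ)
    (DFunLike.ext (AddChar.mulShift ψ a) (AddChar.mulShift ψ b) fun x => by
      simp only [AddChar.mulShift_apply]; exact h x)

theorem eq_zero_of_char {a : K} (h : ∀ x, ψ (a * x) = 1) : a = 0 :=
  eq_of_char hψ fun x => by rw [h, zero_mul, AddChar.map_zero_eq_one]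

theorem ch2_bijective : Function.Bijective (ch2 ψ) := by
  rw [Fintype.bijective_iff_injective_and_card]
  refine ⟨fun c c' h => Prod.ext (eq_of_char hψ fun x => ?_) (eq_of_char hψ fun x => ?_),
    AddChar.card_eq.symm⟩
  · simpa [ch2_apply] using DFunLike.congr_fun h (x, 0)
  · simpa [ch2_apply] using DFunLike.congr_fun h (0, x)

theorem ch3_bijective : Function.Bijective (ch3 ψ) := by
  rw [Fintype.bijective_iff_injective_and_card]
  refine ⟨fun c c' h => Prod.ext (eq_of_char hψ fun x => ?_)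
    (Prod.ext (eq_of_char hψ fun x => ?_) (eq_of_char hψ fun x => ?_)), AddChar.card_eq.symm⟩
  · simpa [ch3_apply] using DFunLike.congr_fun h (x, 0, 0)
  · simpa [ch3_apply] using DFunLike.congr_fun h (0, x, 0)
  · simpa [ch3_apply] using DFunLike.congr_fun h (0, 0, x)

theorem ch4_bijective : Function.Bijective (ch4 ψ) := by
  rw [Fintype.bijective_iff_injective_and_card]
  refine ⟨fun c c' h => Prod.ext (eq_of_char hψ fun x => ?_)
    (Prod.ext (eq_of_char hψ fun x => ?_) (Prod.ext (eq_of_char hψ fun x => ?_)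
      (eq_of_char hψ fun x => ?_))), AddChar.card_eq.symm⟩
  · simpa [ch4_apply] using DFunLike.congr_fun h (x, 0, 0, 0)
  · simpa [ch4_apply] using DFunLike.congr_fun h (0, x, 0, 0)
  · simpa [ch4_apply] using DFunLike.congr_fun h (0, 0, x, 0)
  · simpa [ch4_apply] using DFunLike.congr_fun h (0, 0, 0, x)

omit hψ

section Lines

variable {G : Type*} [Group G] {V : Type*} [AddCommGroup V] [Module ℂ V] [FiniteDimensional ℂ V]
  (ρ : Representation ℂ G V) {A : Type*} [AddCommGroup A] [Fintype A] (f : A → G)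
  (hf : ∀ a b, f (a + b) = f a * f b)

include hf in
/-- An operator fixing a character of multiplicity one multiplies its vectors by scalars. -/
theorem scalar_of_line {χ : AddChar A ℂ} (h : mu ρ f χ = 1) {v : V} (hv0 : v ≠ 0)
    (hv : ∀ a, ρ (f a) v = χ a • v) (g : G) (hg : ∀ a, ρ (f a) (ρ g v) = χ a • ρ g v) :
    ∃ l : ℂ, ρ g v = l • v := by
  obtain ⟨c, hc⟩ := exists_smul_eq_of_finrank_eq_one h
    (x := (⟨v, mem_range ρ f hf hv⟩ : LinearMap.range (pr ρ f χ)))
    (fun e => hv0 (congrArg Subtype.val e)) ⟨ρ g v, mem_range ρ f hf hg⟩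
  exact ⟨c, (congrArg Subtype.val hc).symm⟩

/-- The scalars of a one parameter subgroup on a line form a character. -/
theorem line_char (j : K → G) (hj : ∀ a b, j (a + b) = j a * j b) (hj0 : j 0 = 1) {v : V}
    (hv0 : v ≠ 0) (h : ∀ t, ∃ l : ℂ, ρ (j t) v = l • v) :
    ∃ lam : AddChar K ℂ, ∀ t, ρ (j t) v = lam t • v := by
  choose l hl using h
  refine ⟨⟨l, smul_left_injective ℂ hv0 ?_, fun a b => smul_left_injective ℂ hv0 ?_⟩, hl⟩
  · show l 0 • v = (1 : ℂ) • v
    rw [← hl, hj0, map_one, Module.End.one_apply, one_smul]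
  · show l (a + b) • v = (l a * l b) • v
    rw [← hl, hj, rho_mul, hl, map_smul, hl, smul_smul, mul_comm]

/-- A torus element scaling a one parameter subgroup and fixing a line kills its scalars. -/
theorem line_killed (j : K → G) {v : V} (hv0 : v ≠ 0) {lam : AddChar K ℂ}
    (hl : ∀ t, ρ (j t) v = lam t • v) {h : G} {w : K} (hw : w ≠ 1)
    (hh : ∀ t, h * j t * h⁻¹ = j (w * t)) (hfix : ∃ μ : ℂ, ρ h v = μ • v) :
    ∀ t, ρ (j t) v = v := by
  obtain ⟨μ, hμ⟩ := hfix
  have hμ0 : μ ≠ 0 := fun e => rho_ne ρ h hv0 (by rw [hμ, e, zero_smul])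
  have key : ∀ t, lam (w * t) = lam t := fun t => by
    have e := eigen_conj ρ (hh t) (hl t)
    rw [hμ, map_smul, hl, smul_comm] at e
    exact smul_left_injective ℂ (smul_ne_zero hμ0 hv0) e
  intro t
  have hw1 : w - 1 ≠ 0 := sub_ne_zero.2 hw
  have e := key (t / (w - 1))
  rw [show w * (t / (w - 1)) = t + t / (w - 1) by field_simp; ring, AddChar.map_add_eq_mul] at e
  rw [hl, mul_eq_right₀ (AddChar.val_isUnit _ _).ne_zero |>.1 e, one_smul]

end Lines

end CfsgLib.Known.G2Degree
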