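/-
Root elements, fundamental reflections and torus elements of G₂(q) with their relations.
-/
import Mathlib
import Cfsg.Agent.Lib.Known.LieDegree.Laced
import Cfsg.Agent.Lib.Chev.All
import Cfsg.Agent.Lib.Chev.Data.G2

set_option autoImplicit false
set_option maxRecDepth 20000

namespace CfsgLib.Known.G2Degree

open Cfsg.Lie CfsgLib.Chev

universe v

variable {K : Type v} [Field K]

/-- The root element. -/
noncomputable abbrev X (r : ℕ) (t : K) : ↥(chevG2.group K) := LieDegree.X chevG2 r t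

theorem X_val {r : ℕ} (hr : r < 12) (t : K) :
    ((X r t : ↥(chevG2.group K)) : GL chevG2.Idx K) = xU chevG2 r t := by
  rw [X, LieDegree.X, dif_pos (DataG2.facts.xU_mem_group (show r < chevG2.nroots from hr) t)]

theorem X_add {r : ℕ} (hr : r < 12) (t u : K) : X r (t + u) = X r t * X r u := Subtype.ext (by
  rw [Subgroup.coe_mul, X_val hr, X_val hr, X_val hr,
    DataG2.facts.xU_add (show r < chevG2.nroots from hr)])

theorem X_zero {r : ℕ} (hr : r < 12) : X r (0 : K) = 1 := Subtype.ext (by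
  rw [X_val hr, DataG2.facts.xU_zero (show r < chevG2.nroots from hr), Subgroup.coe_one])

theorem X_neg {r : ℕ} (hr : r < 12) (t : K) : X r (-t) = (X r t)⁻¹ :=
  eq_inv_of_mul_eq_one_right (by rw [← X_add hr, add_neg_cancel, X_zero hr])

theorem X_eq_one {r : ℕ} (hr : r < 12) {t : K} (h : X r t = 1) : t = 0 := by
  refine DataG2.facts.xU_eq_one (show r < chevG2.nroots from hr) ?_
  have := congrArg Subtype.val h
  rwa [X_val hr] at this

/-- A product of root elements. -/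
noncomputable def wX (L : List (ℕ × K)) : ↥(chevG2.group K) := (L.map fun p => X p.1 p.2).prod

theorem wX_nil : wX ([] : List (ℕ × K)) = 1 := rfl

theorem wX_cons (p : ℕ × K) (L : List (ℕ × K)) : wX (p :: L) = X p.1 p.2 * wX L := rfl

theorem wX_val : ∀ {L : List (ℕ × K)}, (∀ p ∈ L, p.1 < 12) →
    ((wX L : ↥(chevG2.group K)) : GL chevG2.Idx K) = wU chevG2 L
  | [], _ => by simp [wX, wU]
  | p :: L, h => by
    rw [wX_cons, Subgroup.coe_mul, X_val (h p List.mem_cons_self),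
      wX_val fun x hx => h x (List.mem_cons_of_mem _ hx)]
    simp [wU]

/-- The commutator formula read as a conjugation. -/
theorem conj_X {r s : ℕ} (hr : r < 12) (hs : s < 12) (hne : s ≠ r) (hn : s ≠ chevG2.neg r)
    (t u : K) : X r t * X s u * (X r t)⁻¹ = X s u * wX (cwR chevG2 r s (-t) u) := by
  have hr' : r < chevG2.nroots := hr
  have hs' : s < chevG2.nroots := hs
  have e := DataG2.facts.xU_comm DataG2.commF hr' hs' hne hn (-t) u
  have hw : ∀ p ∈ cwR chevG2 r s (-t) u, p.1 < 12 := fun p hp => by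
    obtain ⟨c, hc, rfl⟩ := List.mem_map.1 hp
    exact (DataG2.facts.commTerms_wt DataG2.facts.isWeight_omega hr' hs' hc).1
  rw [← X_neg hr, mul_assoc, show X s u * X r (-t) = X r (-t) * X s u * wX (cwR chevG2 r s (-t) u)
    from Subtype.ext (by
      simp only [Subgroup.coe_mul, X_val hr, X_val hs, wX_val hw]
      exact e), ← mul_assoc, ← mul_assoc, ← X_add hr, add_neg_cancel, X_zero hr, one_mul]

theorem conj_of_terms {r s : ℕ} (hr : r < 12) (hs : s < 12) (hne : s ≠ r) (hn : s ≠ chevG2.neg r)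
    {L : List (ℕ × ℤ × ℕ × ℕ)} (h : chevG2.commTerms r s = L) (t u : K) :
    X r t * X s u * (X r t)⁻¹ =
      X s u * wX (L.map fun c => (c.1, (c.2.1 : K) * t ^ c.2.2.1 * u ^ c.2.2.2)) := by
  rw [conj_X hr hs hne hn, cwR, h]
  simp only [neg_neg]

theorem conj_nil {r s : ℕ} (hr : r < 12) (hs : s < 12) (hne : s ≠ r) (hn : s ≠ chevG2.neg r)
    (h : chevG2.commTerms r s = []) (t u : K) : X r t * X s u * (X r t)⁻¹ = X s u := by
  rw [conj_of_terms hr hs hne hn h, List.map_nil, wX_nil, mul_one]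

theorem X_commute {r s : ℕ} (hr : r < 12) (hs : s < 12) (hn : s ≠ chevG2.neg r)
    (h : chevG2.commTerms r s = []) (t u : K) : Commute (X r t) (X s u) := by
  rcases eq_or_ne s r with rfl | hne
  · rw [Commute, SemiconjBy, ← X_add hr, ← X_add hr, add_comm]
  have e := conj_nil hr hs hne hn h t u
  rw [mul_inv_eq_iff_eq_mul] at e
  exact e

/-- Pairs of positive roots whose root groups commute in every characteristic. -/
theorem comm_pairs : ∀ p : Fin 12 × Fin 12, p ∈ [(6, 8), (6, 9), (6, 11), (7, 10), (7, 11), (8, 10),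
    (8, 11), (9, 10), (9, 11), (10, 11), (8, 6), (9, 6), (11, 6), (10, 7), (11, 7), (10, 8),
    (11, 8), (10, 9), (11, 9), (11, 10), (10, 5), (5, 10), (5, 0), (0, 5), (1, 0), (0, 1), (9, 5),
    (5, 9), (6, 1), (1, 6)] →
    (p.2 : ℕ) ≠ chevG2.neg (p.1 : ℕ) ∧ chevG2.commTerms (p.1 : ℕ) (p.2 : ℕ) = [] := by
  decide +kernel

theorem comm (a b : Fin 12) (h : (a, b) ∈ [(6, 8), (6, 9), (6, 11), (7, 10), (7, 11), (8, 10),
    (8, 11), (9, 10), (9, 11), (10, 11), (8, 6), (9, 6), (11, 6), (10, 7), (11, 7), (10, 8),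
    (11, 8), (10, 9), (11, 9), (11, 10), (10, 5), (5, 10), (5, 0), (0, 5), (1, 0), (0, 1), (9, 5),
    (5, 9), (6, 1), (1, 6)]) (t u : K) : Commute (X (a : ℕ) t) (X (b : ℕ) u) :=
  X_commute a.isLt b.isLt (comm_pairs (a, b) h).1 (comm_pairs (a, b) h).2 t u

theorem conj_six_ten (t u : K) : X 6 t * X 10 u * (X 6 t)⁻¹ = X 10 u * X 11 (t * u) := by
  rw [conj_of_terms (by norm_num) (by norm_num) (by norm_num) (by decide +kernel)
    (L := [(11, 1, 1, 1)]) (by decide +kernel)]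
  simp [wX]

theorem conj_six_seven (t u : K) : X 6 t * X 7 u * (X 6 t)⁻¹ =
    X 7 u * (X 8 (t * u) * (X 9 (t * u ^ 2) * (X 10 (-(t * u ^ 3)) *
      X 11 (-2 * t ^ 2 * u ^ 3)))) := by
  rw [conj_of_terms (by norm_num) (by norm_num) (by norm_num) (by decide +kernel)
    (L := [(8, 1, 1, 1), (9, 1, 1, 2), (10, -1, 1, 3), (11, -2, 2, 3)]) (by decide +kernel)]
  simp [wX]

theorem conj_seven_six (t u : K) : X 7 t * X 6 u * (X 7 t)⁻¹ =
    X 6 u * (X 8 (-(t * u)) * (X 9 (t ^ 2 * u) * (X 10 (t ^ 3 * u) * X 11 (t ^ 3 * u ^ 2)))) := by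
  rw [conj_of_terms (by norm_num) (by norm_num) (by norm_num) (by decide +kernel)
    (L := [(8, -1, 1, 1), (9, 1, 2, 1), (10, 1, 3, 1), (11, 1, 3, 2)]) (by decide +kernel)]
  simp [wX]

theorem conj_seven_eight (t u : K) : X 7 t * X 8 u * (X 7 t)⁻¹ =
    X 8 u * (X 9 (-2 * t * u) * (X 10 (-3 * t ^ 2 * u) * X 11 (3 * t * u ^ 2))) := by
  rw [conj_of_terms (by norm_num) (by norm_num) (by norm_num) (by decide +kernel)
    (L := [(9, -2, 1, 1), (10, -3, 2, 1), (11, 3, 1, 2)]) (by decide +kernel)]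
  simp [wX]

theorem conj_seven_nine (t u : K) : X 7 t * X 9 u * (X 7 t)⁻¹ = X 9 u * X 10 (3 * t * u) := by
  rw [conj_of_terms (by norm_num) (by norm_num) (by norm_num) (by decide +kernel)
    (L := [(10, 3, 1, 1)]) (by decide +kernel)]
  simp [wX]

theorem conj_eight_nine (t u : K) : X 8 t * X 9 u * (X 8 t)⁻¹ = X 9 u * X 11 (3 * t * u) := by
  rw [conj_of_terms (by norm_num) (by norm_num) (by norm_num) (by decide +kernel)
    (L := [(11, 3, 1, 1)]) (by decide +kernel)]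
  simp [wX]

theorem conj_one_eleven (t u : K) : X 1 t * X 11 u * (X 1 t)⁻¹ = X 11 u * X 6 (-(t * u)) := by
  rw [conj_of_terms (by norm_num) (by norm_num) (by norm_num) (by decide +kernel)
    (L := [(6, -1, 1, 1)]) (by decide +kernel)]
  simp [wX]

theorem conj_five_one (t u : K) : X 5 t * X 1 u * (X 5 t)⁻¹ = X 1 u * X 0 (-(t * u)) := by
  rw [conj_of_terms (by norm_num) (by norm_num) (by norm_num) (by decide +kernel)
    (L := [(0, -1, 1, 1)]) (by decide +kernel)]
  simp [wX]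

/-! ### Reflections -/

theorem rank_two : chevG2.rank = 2 := rfl

/-- The images of the roots under the two fundamental reflections. -/
def refl (i s : ℕ) : ℕ :=
  if i = 0 then [0, 5, 3, 2, 7, 1, 10, 4, 9, 8, 6, 11].getD s 0
  else [1, 0, 2, 4, 3, 6, 5, 8, 7, 9, 11, 10].getD s 0

theorem refl_eq : ∀ (i : Fin 2) (s : Fin 12),
    chevG2.reflectRoot (i : ℕ) (s : ℕ) = refl i s ∧ refl i s < 12 ∧ refl i (refl i s) = s := by
  decide +kernel

/-- The fundamental reflection as an element of the group. -/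
noncomputable def nn (i : Fin 2) : ↥(chevG2.group K) :=
  ⟨nS chevG2 K i, DataG2.facts.monomial_le_group (DataG2.facts.nS_mem _)⟩

theorem exists_sign (i : Fin 2) : ∃ e : ℕ → K, ∀ s < 12, (e s = 1 ∨ e s = -1) ∧
    ∀ t : K, nn i * X s t * (nn i)⁻¹ = X (refl i s) (e s * t) := by
  obtain ⟨η, h1, -, h3⟩ := DataG2.facts.exists_eta (F := K) (show (i : ℕ) < chevG2.rank from i.isLt)
  refine ⟨fun s => (η s : K), fun s hs => ⟨by rcases h1 s hs with h | h <;> simp [h],
    fun t => Subtype.ext ?_⟩⟩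
  obtain ⟨e1, e2, -⟩ := refl_eq i ⟨s, hs⟩
  simp only [Subgroup.coe_mul, Subgroup.coe_inv, nn, X_val hs, X_val e2]
  show nU chevG2 (chevG2.simple (i : ℕ)) 1 * _ * (nU chevG2 (chevG2.simple (i : ℕ)) 1)⁻¹ = _
  rw [h3 s hs t, mul_inv_cancel_right, e1]

/-! ### The torus -/

/-- A torus element. -/
noncomputable def tor (c d : Kˣ) : ↥(chevG2.group K) :=
  ⟨hT chevG2 (fun m => if m = 0 then c else d),
    DataG2.facts.diagonal_le_group (DataG2.facts.mem_diagonal_iff.2 ⟨_, rfl⟩)⟩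

theorem tor_conj (c d : Kˣ) {r : ℕ} (hr : r < 12) (t : K) :
    tor c d * X r t * (tor c d)⁻¹ =
      X r (((c ^ chevG2.cartan 0 r * d ^ chevG2.cartan 1 r : Kˣ) : K) * t) := Subtype.ext (by
  simp only [Subgroup.coe_mul, Subgroup.coe_inv, tor, X_val hr]
  rw [DataG2.facts.hT_conj_xU _ (show r < chevG2.nroots from hr),
    show Finset.range chevG2.rank = Finset.range 2 from rfl, Finset.prod_range_succ,
    Finset.prod_range_one]
  simp)

/-- The weights of a torus element on the roots in use. -/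
theorem weights : ∀ r : Fin 12, (chevG2.cartan 0 (r : ℕ), chevG2.cartan 1 (r : ℕ)) =
    [((0 : ℤ), (-1 : ℤ)), (-3, 1), (-1, 0), (1, -1), (-2, 1), (3, -2), (-3, 2), (2, -1), (-1, 1),
      (1, 0), (3, -1), (0, 1)].getD (r : ℕ) (0, 0) := by
  decide +kernel

theorem tor_six (c d : Kˣ) (t : K) :
    tor c d * X 6 t * (tor c d)⁻¹ = X 6 (((d : K) ^ 2 / (c : K) ^ 3) * t) := by
  rw [tor_conj c d (by norm_num)]
  obtain ⟨h0, h1⟩ := Prod.ext_iff.1 (weights 6)
  rw [show chevG2.cartan 0 6 = -3 from h0, show chevG2.cartan 1 6 = 2 from h1]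
  simp [div_eq_mul_inv, mul_comm, zpow_neg]

theorem tor_seven (c d : Kˣ) (t : K) :
    tor c d * X 7 t * (tor c d)⁻¹ = X 7 (((c : K) ^ 2 / (d : K)) * t) := by
  rw [tor_conj c d (by norm_num)]
  obtain ⟨h0, h1⟩ := Prod.ext_iff.1 (weights 7)
  rw [show chevG2.cartan 0 7 = 2 from h0, show chevG2.cartan 1 7 = -1 from h1]
  simp [div_eq_mul_inv, zpow_neg]

theorem tor_eight (c d : Kˣ) (t : K) :
    tor c d * X 8 t * (tor c d)⁻¹ = X 8 (((d : K) / (c : K)) * t) := by
  rw [tor_conj c d (by norm_num)]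
  obtain ⟨h0, h1⟩ := Prod.ext_iff.1 (weights 8)
  rw [show chevG2.cartan 0 8 = -1 from h0, show chevG2.cartan 1 8 = 1 from h1]
  simp [div_eq_mul_inv, mul_comm, zpow_neg]

theorem tor_nine (c d : Kˣ) (t : K) : tor c d * X 9 t * (tor c d)⁻¹ = X 9 ((c : K) * t) := by
  rw [tor_conj c d (by norm_num)]
  obtain ⟨h0, h1⟩ := Prod.ext_iff.1 (weights 9)
  rw [show chevG2.cartan 0 9 = 1 from h0, show chevG2.cartan 1 9 = 0 from h1]
  simp

theorem tor_ten (c d : Kˣ) (t : K) :
    tor c d * X 10 t * (tor c d)⁻¹ = X 10 (((c : K) ^ 3 / (d : K)) * t) := by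
  rw [tor_conj c d (by norm_num)]
  obtain ⟨h0, h1⟩ := Prod.ext_iff.1 (weights 10)
  rw [show chevG2.cartan 0 10 = 3 from h0, show chevG2.cartan 1 10 = -1 from h1]
  simp [div_eq_mul_inv, zpow_neg]

theorem tor_eleven (c d : Kˣ) (t : K) : tor c d * X 11 t * (tor c d)⁻¹ = X 11 ((d : K) * t) := by
  rw [tor_conj c d (by norm_num)]
  obtain ⟨h0, h1⟩ := Prod.ext_iff.1 (weights 11)
  rw [show chevG2.cartan 0 11 = 0 from h0, show chevG2.cartan 1 11 = 1 from h1]
  simp

theorem tor_one (c d : Kˣ) (t : K) :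
    tor c d * X 1 t * (tor c d)⁻¹ = X 1 (((d : K) / (c : K) ^ 3) * t) := by
  rw [tor_conj c d (by norm_num)]
  obtain ⟨h0, h1⟩ := Prod.ext_iff.1 (weights 1)
  rw [show chevG2.cartan 0 1 = -3 from h0, show chevG2.cartan 1 1 = 1 from h1]
  simp [div_eq_mul_inv, mul_comm, zpow_neg]

theorem tor_zero (c d : Kˣ) (t : K) :
    tor c d * X 0 t * (tor c d)⁻¹ = X 0 (((d : K))⁻¹ * t) := by
  rw [tor_conj c d (by norm_num)]
  obtain ⟨h0, h1⟩ := Prod.ext_iff.1 (weights 0)
  rw [show chevG2.cartan 0 0 = 0 from h0, show chevG2.cartan 1 0 = -1 from h1]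
  simp

end CfsgLib.Known.G2Degree
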