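/-
Further tools: projections and operators, independence of joint eigenvectors, restriction to a stable subspace.
-/
import Mathlib
import Cfsg.Agent.Lib.Known.G2Degree.Rep

set_option autoImplicit false
set_option linter.unusedSectionVars false

namespace CfsgLib.Known.G2Degree

open CfsgLib.Known.D4Degree

variable {G : Type*} [Group G] {V : Type*} [AddCommGroup V] [Module ℂ V] [FiniteDimensional ℂ V]
  (ρ : Representation ℂ G V)

/-- Joint eigenvectors with distinct eigenvalue systems are independent. -/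
theorem li_eigen {ι : Type*} {J : Type*} (O : J → Module.End ℂ V) {v : ι → V}
    {χ : ι → J → ℂ} (hinj : Function.Injective χ) (hne : ∀ i, v i ≠ 0)
    (hv : ∀ i a, O a (v i) = χ i a • v i) : LinearIndependent ℂ v := by
  classical
  rw [linearIndependent_iff']
  intro s
  induction s using Finset.induction_on with
  | empty => simp
  | @insert i₀ s hi ih =>
    intro c hc
    have hj : ∀ j ∈ s, c j = 0 := by
      intro j hj
      obtain ⟨a, ha⟩ := Function.ne_iff.1 (hinj.ne (ne_of_mem_of_not_mem hj hi))
      have h1 : ∑ k ∈ insert i₀ s, (c k * (χ k a - χ i₀ a)) • v k = 0 := by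
        simp only [mul_sub, sub_smul, Finset.sum_sub_distrib]
        rw [show ∑ k ∈ insert i₀ s, (c k * χ k a) • v k = O a (∑ k ∈ insert i₀ s, c k • v k) by
          simp only [map_sum, map_smul, hv, smul_smul]]
        rw [show ∑ k ∈ insert i₀ s, (c k * χ i₀ a) • v k =
            χ i₀ a • (∑ k ∈ insert i₀ s, c k • v k) by
          simp only [Finset.smul_sum, smul_smul, mul_comm]]
        rw [hc, map_zero, smul_zero, sub_zero]
      rw [Finset.sum_insert hi, sub_self, mul_zero, zero_smul, zero_add] at h1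
      exact (mul_eq_zero.1 (ih _ h1 j hj)).resolve_right (sub_ne_zero.2 ha)
    intro k hk
    rcases Finset.mem_insert.1 hk with rfl | hk
    · rw [Finset.sum_insert hi, Finset.sum_eq_zero (fun j hjs => by rw [hj j hjs, zero_smul]),
        add_zero] at hc
      exact (smul_eq_zero.1 hc).resolve_right (hne _)
    · exact hj k hk

theorem card_le_eigen {ι : Type*} [Fintype ι] {J : Type*} (O : J → Module.End ℂ V) {v : ι → V}
    {χ : ι → J → ℂ} (hinj : Function.Injective χ) (hne : ∀ i, v i ≠ 0)
    (hv : ∀ i a, O a (v i) = χ i a • v i) {W : Submodule ℂ V} (hW : ∀ i, v i ∈ W) :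
    Fintype.card ι ≤ Module.finrank ℂ W := by
  rw [← finrank_span_eq_card (li_eigen O hinj hne hv)]
  exact Submodule.finrank_mono (Submodule.span_le.2 (by rintro _ ⟨i, rfl⟩; exact hW i))

section Abelian

variable {A : Type*} [AddCommGroup A] [Fintype A] (f : A → G) (hf : ∀ a b, f (a + b) = f a * f b)

include hf

/-- The projection turns the subgroup into its character. -/
theorem pr_act (χ : AddChar A ℂ) (a : A) (v : V) :
    pr ρ f χ (ρ (f a) v) = χ a • pr ρ f χ v := by
  have := LinearMap.congr_fun (proj_mul (op_add ρ f hf) χ a) v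
  simpa [op, pr] using this

theorem pr_eq_zero_of_fixed {χ : AddChar A ℂ} {a : A} {v : V} (hv : ρ (f a) v = v)
    (hχ : χ a ≠ 1) : pr ρ f χ v = 0 := by
  have h := pr_act ρ f hf χ a v
  rw [hv] at h
  by_contra hne
  exact hχ (smul_left_injective ℂ hne (by simpa only [one_smul] using h.symm))

/-- A vector without components on which `a` is non-trivial is fixed by `a`. -/
theorem fixed_of_pr (a : A) (v : V) (h : ∀ χ : AddChar A ℂ, χ a ≠ 1 → pr ρ f χ v = 0) :
    ρ (f a) v = v := by
  conv_lhs => rw [← sum_pr ρ f hf v]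
  rw [map_sum]
  refine (Finset.sum_congr rfl fun χ _ => ?_).trans (sum_pr ρ f hf v)
  rw [eigen_pr ρ f hf]
  by_cases hχ : χ a = 1
  · rw [hχ, one_smul]
  · rw [h χ hχ, smul_zero]

theorem fix_of_mu_at (a : A) (h : ∀ χ : AddChar A ℂ, χ a ≠ 1 → mu ρ f χ = 0) (v : V) :
    ρ (f a) v = v :=
  fixed_of_pr ρ f hf a v fun χ hχ => pr_eq_zero ρ f hf (h χ hχ) v

/-- An element normalising the subgroup moves the projections. -/
theorem pr_move (g : G) (e : A ≃+ A) (he : ∀ a, g * f a * g⁻¹ = f (e a))
    {χ χ' : AddChar A ℂ} (hχ : ∀ a, χ a = χ' (e a)) (v : V) :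
    pr ρ f χ' (ρ g v) = ρ g (pr ρ f χ v) :=
  (LinearMap.congr_fun (conj_proj (R := op ρ f) (S := ρ g) (T := ρ g⁻¹)
    (by rw [← map_mul]; simp) e.bijective
    (fun a => by rw [op, op, ← map_mul, ← map_mul, he]) χ χ' fun a => by rw [hχ, map_neg]) v).symm

end Abelian

section Restrict

/-- The elements preserving a subspace. -/
def stab (W : Submodule ℂ V) : Subgroup G where
  carrier := {g | ∀ v ∈ W, ρ g v ∈ W}
  one_mem' v hv := by rwa [map_one, Module.End.one_apply]
  mul_mem' {a b} ha hb v hv := by rw [rho_mul]; exact ha _ (hb v hv)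
  inv_mem' {g} hg v hv := by
    have hinj : Function.Injective fun w : W => (⟨ρ g w, hg w w.2⟩ : W) := fun x y h =>
      Subtype.ext ((Function.LeftInverse.injective (rho_cancel ρ g)) (congrArg Subtype.val h))
    obtain ⟨w, hw⟩ := (LinearMap.injective_iff_surjective
      (f := ((ρ g).restrict hg : W →ₗ[ℂ] W))).1 hinj ⟨v, hv⟩
    have hw' : ρ g w = v := congrArg Subtype.val hw
    rw [← hw', rho_cancel]
    exact w.2

theorem mem_stab {W : Submodule ℂ V} {g : G} : g ∈ stab ρ W ↔ ∀ v ∈ W, ρ g v ∈ W := Iff.rfl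

/-- The representation of the stabiliser on the subspace. -/
noncomputable def resW (W : Submodule ℂ V) : Representation ℂ ↥(stab ρ W) W where
  toFun g := (ρ g).restrict g.2
  map_one' := LinearMap.ext fun w => Subtype.ext (by simp)
  map_mul' g h := LinearMap.ext fun w => Subtype.ext (rho_mul ρ (g : G) h w)

theorem resW_apply (W : Submodule ℂ V) (g : ↥(stab ρ W)) (w : W) :
    (resW ρ W g w : V) = ρ g w := rfl

end Restrict

end CfsgLib.Known.G2Degree
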