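/-
Representations of G₂(q), 3 ∤ q: the multiplicities on the abelian root subgroup of 2a+b, 3a+b, 3a+2b.
-/
import Mathlib
import Cfsg.Agent.Lib.Known.G2Degree.Elems
import Cfsg.Agent.Lib.Known.G2Degree.Chars
import Cfsg.Agent.Lib.Known.G2Degree.Tools

set_option autoImplicit false
set_option linter.unusedSectionVars false
set_option maxRecDepth 20000

namespace CfsgLib.Known.G2Degree

open Cfsg.Lie CfsgLib.Chev

universe v

variable {K : Type v} [Field K]

/-- Commuting root elements. -/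
theorem cm (a b : ℕ) (h : a < 12 ∧ b < 12 ∧ b ≠ chevG2.neg a ∧ chevG2.commTerms a b = [])
    (t u : K) : Commute (X a t) (X b u) :=
  X_commute h.1 h.2.1 h.2.2.1 h.2.2.2 t u

/-- The root subgroup of 2a+b, 3a+b, 3a+2b. -/
noncomputable def f3 (p : K × K × K) : ↥(chevG2.group K) := X 9 p.1 * X 10 p.2.1 * X 11 p.2.2

theorem f3_add (p p' : K × K × K) : f3 (p + p') = f3 p * f3 p' := by
  simp only [f3, Prod.fst_add, Prod.snd_add, X_add (show 9 < 12 by norm_num),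
    X_add (show 10 < 12 by norm_num), X_add (show 11 < 12 by norm_num)]
  have h1 : Commute (X 9 p'.1) (X 10 p.2.1) := comm 9 10 (by decide) _ _
  have h2 : Commute (X 9 p'.1) (X 11 p.2.2) := comm 9 11 (by decide) _ _
  have h3 : Commute (X 10 p'.2.1) (X 11 p.2.2) := comm 10 11 (by decide) _ _
  calc _ = X 9 p.1 * (X 9 p'.1 * X 10 p.2.1) * (X 10 p'.2.1 * X 11 p.2.2) * X 11 p'.2.2 := by group
    _ = X 9 p.1 * (X 10 p.2.1 * X 9 p'.1) * (X 11 p.2.2 * X 10 p'.2.1) * X 11 p'.2.2 := by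
      rw [h1.eq, h3.eq]
    _ = X 9 p.1 * X 10 p.2.1 * (X 9 p'.1 * X 11 p.2.2) * X 10 p'.2.1 * X 11 p'.2.2 := by group
    _ = X 9 p.1 * X 10 p.2.1 * (X 11 p.2.2 * X 9 p'.1) * X 10 p'.2.1 * X 11 p'.2.2 := by rw [h2.eq]
    _ = _ := by group

theorem f3_nine (t : K) : f3 (t, 0, 0) = X 9 t := by simp [f3, X_zero]

theorem f3_ten (t : K) : f3 (0, t, 0) = X 10 t := by simp [f3, X_zero]

theorem f3_eleven (t : K) : f3 (0, 0, t) = X 11 t := by simp [f3, X_zero]

/-- A shear of triples. -/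
def sh3 (s u : K) : K × K × K ≃+ K × K × K where
  toFun p := (p.1, p.2.1, p.2.2 + s * p.1 + u * p.2.1)
  invFun p := (p.1, p.2.1, p.2.2 - s * p.1 - u * p.2.1)
  left_inv p := Prod.ext rfl (Prod.ext rfl (by dsimp; ring))
  right_inv p := Prod.ext rfl (Prod.ext rfl (by dsimp; ring))
  map_add' p p' := Prod.ext rfl (Prod.ext rfl (by dsimp; ring))

/-- The shear of the middle coordinate by the last. -/
def sh5 (s : K) : K × K × K ≃+ K × K × K where
  toFun p := (p.1, p.2.1 + s * p.2.2, p.2.2)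
  invFun p := (p.1, p.2.1 - s * p.2.2, p.2.2)
  left_inv p := Prod.ext rfl (Prod.ext (by dsimp; ring) rfl)
  right_inv p := Prod.ext rfl (Prod.ext (by dsimp; ring) rfl)
  map_add' p p' := Prod.ext rfl (Prod.ext (by dsimp; ring) rfl)

/-- A diagonal scaling of triples. -/
def sc3 (u w z : Kˣ) : K × K × K ≃+ K × K × K where
  toFun p := ((u : K) * p.1, (w : K) * p.2.1, (z : K) * p.2.2)
  invFun p := (((u⁻¹ : Kˣ) : K) * p.1, ((w⁻¹ : Kˣ) : K) * p.2.1, ((z⁻¹ : Kˣ) : K) * p.2.2)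
  left_inv p := by simp
  right_inv p := by simp
  map_add' p p' := Prod.ext (mul_add _ _ _) (Prod.ext (mul_add _ _ _) (mul_add _ _ _))

/-- A scaling exchanging the last two coordinates. -/
def sw3 (u w z : Kˣ) : K × K × K ≃+ K × K × K where
  toFun p := ((u : K) * p.1, (z : K) * p.2.2, (w : K) * p.2.1)
  invFun p := (((u⁻¹ : Kˣ) : K) * p.1, ((w⁻¹ : Kˣ) : K) * p.2.2, ((z⁻¹ : Kˣ) : K) * p.2.1)
  left_inv p := by simp
  right_inv p := by simp
  map_add' p p' := Prod.ext (mul_add _ _ _) (Prod.ext (mul_add _ _ _) (mul_add _ _ _))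

theorem conj_mul3 {G : Type*} [Group G] (g a b c : G) :
    g * (a * b * c) * g⁻¹ = (g * a * g⁻¹) * (g * b * g⁻¹) * (g * c * g⁻¹) := by group

theorem conj_eq_self {G : Type*} [Group G] {g a : G} (h : Commute g a) : g * a * g⁻¹ = a := by
  rw [h.eq, mul_inv_cancel_right]

theorem eight_f3 (s : K) (p : K × K × K) :
    X 8 s * f3 p * (X 8 s)⁻¹ = f3 (sh3 (3 * s) 0 p) := by
  rw [f3, conj_mul3, conj_eight_nine, conj_eq_self (cm 8 10 (by decide +kernel) _ _),
    conj_eq_self (cm 8 11 (by decide +kernel) _ _), mul_assoc (X 9 p.1), (cm 11 10 (by decide +kernel) _ _).eq,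
    ← mul_assoc, mul_assoc, ← X_add (by norm_num)]
  simp [f3, sh3, add_comm]

theorem six_f3 (s : K) (p : K × K × K) : X 6 s * f3 p * (X 6 s)⁻¹ = f3 (sh3 0 s p) := by
  rw [f3, conj_mul3, conj_six_ten, conj_eq_self (cm 6 9 (by decide +kernel) _ _),
    conj_eq_self (cm 6 11 (by decide +kernel) _ _), ← mul_assoc, mul_assoc, ← X_add (by norm_num)]
  simp [f3, sh3, add_comm]

theorem conj_five_eleven (t u : K) :
    X 5 t * X 11 u * (X 5 t)⁻¹ = X 11 u * X 10 (t * u) := by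
  rw [conj_of_terms (by norm_num) (by norm_num) (by norm_num) (by decide +kernel)
    (L := [(10, 1, 1, 1)]) (by decide +kernel)]
  simp [wX]

theorem five_f3 (s : K) (p : K × K × K) : X 5 s * f3 p * (X 5 s)⁻¹ = f3 (sh5 s p) := by
  rw [f3, conj_mul3, conj_five_eleven, conj_eq_self (cm 5 9 (by decide +kernel) _ _),
    conj_eq_self (cm 5 10 (by decide +kernel) _ _), (cm 11 10 (by decide +kernel) _ _).eq, mul_assoc,
    ← mul_assoc (X 10 p.2.1), ← X_add (by norm_num)]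
  simp [f3, sh5, mul_assoc]

theorem tor_f3 (c d : Kˣ) (p : K × K × K) :
    tor c d * f3 p * (tor c d)⁻¹ = f3 (sc3 c (c ^ 3 / d) d p) := by
  rw [f3, conj_mul3, tor_nine, tor_ten, tor_eleven]
  simp [f3, sc3]

theorem n6_f3 : ∃ u w z : Kˣ, ∀ p : K × K × K,
    nn 1 * f3 p * (nn 1)⁻¹ = f3 (sw3 u w z p) := by
  obtain ⟨e, he⟩ := exists_sign (K := K) 1
  have hne : ∀ s < 12, e s ≠ 0 := fun s hs => by rcases (he s hs).1 with h | h <;> simp [h]
  refine ⟨Units.mk0 _ (hne 9 (by norm_num)), Units.mk0 _ (hne 10 (by norm_num)),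
    Units.mk0 _ (hne 11 (by norm_num)), fun p => ?_⟩
  rw [f3, conj_mul3, (he 9 (by norm_num)).2, (he 10 (by norm_num)).2, (he 11 (by norm_num)).2]
  simp only [refl, Fin.val_one, one_ne_zero, ↓reduceIte, List.getD_cons_succ, List.getD_cons_zero]
  rw [mul_assoc, (cm 11 10 (by decide +kernel) _ _).eq, ← mul_assoc]
  rfl

theorem tor_commute (c d c' d' : Kˣ) : Commute (tor c d) (tor c' d') := Subtype.ext (by
  simp only [Subgroup.coe_mul, tor]
  rw [← DataG2.facts.hT_mul, ← DataG2.facts.hT_mul]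
  congr 1
  funext m
  exact mul_comm _ _)

variable [Fintype K]

/-- A generator of the multiplicative group, with its order. -/
theorem exists_gen : ∃ c : Kˣ, ∀ n : ℕ, 0 < n → n < Fintype.card K - 1 → c ^ n ≠ 1 := by
  classical
  obtain ⟨c, hc⟩ := IsCyclic.exists_generator (α := Kˣ)
  refine ⟨c, fun n h0 hn h => ?_⟩
  have h2 := orderOf_eq_card_of_forall_mem_zpowers hc
  rw [Nat.card_eq_fintype_card, Fintype.card_units] at h2
  exact absurd (Nat.le_of_dvd h0 (orderOf_dvd_of_pow_eq_one h)) (by omega)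

variable {V : Type*} [AddCommGroup V] [Module ℂ V] [FiniteDimensional ℂ V]
  (ρ : Representation ℂ ↥(chevG2.group K) V) (ψ : AddChar K ℂ)

/-- The multiplicity at a coefficient triple. -/
noncomputable def m3 (a b g : K) : ℕ := mu ρ f3 (ch3 ψ (a, b, g))

theorem ch3_zero : ch3 ψ (0, 0, 0) = 0 := by
  refine DFunLike.ext _ _ fun p => ?_
  simp [ch3_apply]

theorem m3_eight (s a b g : K) : m3 ρ ψ (a + 3 * s * g) b g = m3 ρ ψ a b g :=
  mu_move ρ f3 f3_add (X 8 s) (sh3 (3 * s) 0) (eight_f3 s) fun p => by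
    simp only [ch3_apply]; congr 1; simp [sh3]; ring

theorem m3_six (s a b g : K) : m3 ρ ψ a (b + s * g) g = m3 ρ ψ a b g :=
  mu_move ρ f3 f3_add (X 6 s) (sh3 0 s) (six_f3 s) fun p => by
    simp only [ch3_apply]; congr 1; simp [sh3]; ring

theorem m3_tor (c d : Kˣ) (a b g : K) :
    m3 ρ ψ (a * c) (b * ((c : K) ^ 3 / d)) (g * d) = m3 ρ ψ a b g :=
  mu_move ρ f3 f3_add (tor c d) _ (tor_f3 c d) fun p => by
    simp only [ch3_apply]; congr 1; simp [sc3]; ring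

/-- All triples outside the axis have one multiplicity. -/
theorem m3_eq (h3 : (3 : K) ≠ 0) (a b g : K) (h : ¬(b = 0 ∧ g = 0)) :
    m3 ρ ψ a b g = m3 ρ ψ 0 0 1 := by
  have hg : ∀ a b g : K, g ≠ 0 → m3 ρ ψ a b g = m3 ρ ψ 0 0 1 := fun a b g hg => by
    have e1 := m3_eight ρ ψ (a / (3 * g)) 0 b g
    rw [show (0 : K) + 3 * (a / (3 * g)) * g = a by field_simp; ring] at e1
    have e2 := m3_six ρ ψ (b / g) 0 0 g
    rw [show (0 : K) + b / g * g = b by rw [zero_add, div_mul_cancel₀ _ hg]] at e2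
    have e3 := m3_tor ρ ψ 1 (Units.mk0 g hg) 0 0 1
    simp only [zero_mul, one_mul, Units.val_mk0] at e3
    rw [e1, e2, e3]
  by_cases hg0 : g = 0
  · obtain ⟨u, w, z, hn⟩ := n6_f3 (K := K)
    have hb : b ≠ 0 := fun hb => h ⟨hb, hg0⟩
    have e : m3 ρ ψ (a * u) (g * w) (b * z) = m3 ρ ψ a b g :=
      mu_move ρ f3 f3_add (nn 1) _ hn fun p => by
        simp only [ch3_apply]; congr 1; simp [sw3]; ring
    rw [← e, hg _ _ _ (mul_ne_zero hb z.ne_zero)]
  · exact hg a b g hg0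

variable {ψ} (hψ : ψ ≠ 1)
include hψ

theorem sum_m3 : ∑ p : K × K × K, m3 ρ ψ p.1 p.2.1 p.2.2 = Module.finrank ℂ V := by
  rw [← sum_mu ρ f3 f3_add]
  exact Fintype.sum_bijective (ch3 ψ) (ch3_bijective hψ) _ _ fun p => rfl

theorem finrank_eq (h3 : (3 : K) ≠ 0) :
    Module.finrank ℂ V + Fintype.card K * m3 ρ ψ 0 0 1 =
      Fintype.card K ^ 3 * m3 ρ ψ 0 0 1 + ∑ a, m3 ρ ψ a 0 0 := by
  classical
  rw [← sum_m3 ρ hψ, Fintype.sum_prod_type]
  have key : ∀ a : K, ∑ x : K × K, m3 ρ ψ a x.1 x.2 + m3 ρ ψ 0 0 1 =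
      m3 ρ ψ a 0 0 + Fintype.card K ^ 2 * m3 ρ ψ 0 0 1 := fun a => by
    rw [← Finset.add_sum_erase _ _ (Finset.mem_univ ((0 : K), (0 : K))),
      Finset.sum_congr rfl (fun x hx => m3_eq ρ ψ h3 a x.1 x.2 fun h =>
        Finset.ne_of_mem_erase hx (Prod.ext h.1 h.2)),
      Finset.sum_const, smul_eq_mul, add_assoc, ← Nat.succ_mul]
    congr 2
    rw [Finset.card_erase_of_mem (Finset.mem_univ _), Finset.card_univ, Fintype.card_prod, sq,
      Nat.succ_eq_add_one, Nat.sub_add_cancel (Nat.one_le_iff_ne_zero.2 (by simp))]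
  have h := Finset.sum_congr rfl (fun a (_ : a ∈ Finset.univ) => key a)
  simp only [Finset.sum_add_distrib, Finset.sum_const, Finset.card_univ, smul_eq_mul] at h
  rw [h, add_comm, ← mul_assoc]
  congr 1
  ring

variable (hinj : ∀ g, (∀ v, ρ g v = v) → g = 1)
include hinj

theorem m3_pos (h3 : (3 : K) ≠ 0) : m3 ρ ψ 0 0 1 ≠ 0 := fun h => by
  have e := hinj (X 11 1) fun v => by
    rw [← f3_eleven]
    refine fix_of_mu_at ρ f3 f3_add _ (fun χ hχ => ?_) v
    obtain ⟨⟨a, b, g⟩, rfl⟩ := (ch3_bijective hψ).2 χ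
    have hg : g ≠ 0 := fun hg => hχ (by simp [ch3_apply, hg])
    exact (m3_eq ρ ψ h3 a b g fun h0 => hg h0.2).trans h
  exact one_ne_zero (X_eq_one (by norm_num) e)

omit hinj hψ

/-- The fixed space of the subgroup. -/
noncomputable def Wsp : Submodule ℂ V := LinearMap.range (pr ρ f3 0)

theorem mem_Wsp {v : V} (h9 : ∀ t, ρ (X 9 t) v = v) (h10 : ∀ t, ρ (X 10 t) v = v)
    (h11 : ∀ t, ρ (X 11 t) v = v) : v ∈ Wsp ρ :=
  mem_range ρ f3 f3_add fun p => by
    rw [AddChar.zero_apply, one_smul, f3, rho_mul, rho_mul, h11, h10, h9]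

theorem Wsp_fixed {v : V} (hv : v ∈ Wsp ρ) (p : K × K × K) : ρ (f3 p) v = v := by
  obtain ⟨w, rfl⟩ := hv
  rw [eigen_pr ρ f3 f3_add, AddChar.zero_apply, one_smul]

theorem finrank_Wsp : Module.finrank ℂ (Wsp ρ) = m3 ρ ψ 0 0 0 := by
  rw [m3, ch3_zero]; rfl

include hψ in
/-- When the common multiplicity is one there are vectors fixed by the root groups of a+b and above,
with every non-trivial character of the root group of b. -/
theorem exists_line (h3 : (3 : K) ≠ 0) (hq : 5 ≤ Fintype.card K) (h1 : m3 ρ ψ 0 0 1 = 1)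
    (a : Kˣ) : ∃ w : V, w ≠ 0 ∧ (∀ t, ρ (X 8 t) w = w) ∧ w ∈ Wsp ρ ∧
      ∀ t, ρ (X 6 t) w = ψ (a * t) • w := by
  have hm : mu ρ f3 (ch3 ψ (0, 1, 0)) = 1 := (m3_eq ρ ψ h3 0 1 0 (by simp)).trans h1
  obtain ⟨v, hv0, hv⟩ := exists_vec ρ f3 f3_add (χ := ch3 ψ (0, 1, 0)) (by rw [hm]; norm_num)
  have hmove : ∀ (g : ↥(chevG2.group K)) (e : K × K × K ≃+ K × K × K),
      (∀ p, g * f3 p * g⁻¹ = f3 (e p)) →
      (∀ p, ch3 ψ (0, 1, 0) p = ch3 ψ (0, 1, 0) (e p)) →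
      ∀ p, ρ (f3 p) (ρ g v) = ch3 ψ (0, 1, 0) p • ρ g v := fun g e he hχ p => by
    have := eigen_conj ρ (he (e.symm p)) (hv _)
    rwa [hχ, e.apply_symm_apply] at this
  have v9 : ∀ t, ρ (X 9 t) v = v := fun t => by rw [← f3_nine, hv]; simp [ch3_apply]
  have v10 : ∀ t, ρ (X 10 t) v = ψ t • v := fun t => by rw [← f3_ten, hv]; simp [ch3_apply]
  have v11 : ∀ t, ρ (X 11 t) v = v := fun t => by rw [← f3_eleven, hv]; simp [ch3_apply]
  obtain ⟨c, hc⟩ := exists_gen (K := K)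
  have hfix : ∃ μ : ℂ, ρ (tor c (c ^ 3)) v = μ • v :=
    scalar_of_line ρ f3 f3_add hm hv0 hv _ (hmove _ _ (tor_f3 _ _) fun p => by
      simp [ch3_apply, sc3])
  have line : ∀ (r : ℕ), r < 12 →
      (∀ t, ∀ p, ρ (f3 p) (ρ (X r t) v) = ch3 ψ (0, 1, 0) p • ρ (X r t) v) → ∀ w : K, w ≠ 1 →
      (∀ t, tor c (c ^ 3) * X r t * (tor c (c ^ 3))⁻¹ = X r (w * t)) → ∀ t, ρ (X r t) v = v := by
    intro r hr hr' w hw hh
    obtain ⟨lam, hlam⟩ := line_char ρ (X r) (X_add hr) (X_zero hr) hv0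
      fun t => scalar_of_line ρ f3 f3_add hm hv0 hv _ (hr' t)
    exact line_killed ρ (X r) hv0 hlam hw hh hfix
  have v8 : ∀ t, ρ (X 8 t) v = v := line 8 (by norm_num)
    (fun t => hmove _ _ (eight_f3 t) fun p => by simp [ch3_apply, sh3]) ((c : K) ^ 2)
    (by rw [← Units.val_pow_eq_pow_val, ne_eq, Units.val_eq_one]; exact hc 2 (by norm_num) (by omega))
    fun t => by rw [tor_eight]; congr 2; simp; field_simp
  have v6 : ∀ t, ρ (X 6 t) v = v := line 6 (by norm_num)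
    (fun t => hmove _ _ (six_f3 t) fun p => by simp [ch3_apply, sh3]) ((c : K) ^ 3)
    (by rw [← Units.val_pow_eq_pow_val, ne_eq, Units.val_eq_one]; exact hc 3 (by norm_num) (by omega))
    fun t => by rw [tor_six]; congr 2; simp; field_simp
  obtain ⟨e, he⟩ := exists_sign (K := K) 0
  have tr : ∀ s < 12, ∀ t, ∀ z : ℂ, ρ (X s (e s * t)) v = z • v →
      ρ (X (refl 0 s) t) (ρ (nn 0) v) = z • ρ (nn 0) v := fun s hs t z hz => by
    have hs' := (he s hs).2 (e s * t)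
    rcases (he s hs).1 with h | h
    · rw [h, one_mul, one_mul] at hs'
      exact eigen_conj ρ hs' (by rwa [h, one_mul] at hz)
    · rw [h, show (-1 : K) * (-1 * t) = t by ring] at hs'
      exact eigen_conj ρ hs' (by rwa [h] at hz)
  set z := ρ (nn 0) v with hz
  have z9 : ∀ t, ρ (X 9 t) z = z := fun t => by
    simpa [refl] using tr 8 (by norm_num) t 1 (by rw [one_smul, v8])
  have z8 : ∀ t, ρ (X 8 t) z = z := fun t => by
    simpa [refl] using tr 9 (by norm_num) t 1 (by rw [one_smul, v9])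
  have z10 : ∀ t, ρ (X 10 t) z = z := fun t => by
    simpa [refl] using tr 6 (by norm_num) t 1 (by rw [one_smul, v6])
  have z11 : ∀ t, ρ (X 11 t) z = z := fun t => by
    simpa [refl] using tr 11 (by norm_num) t 1 (by rw [one_smul, v11])
  have z6 : ∀ t, ρ (X 6 t) z = ψ (e 10 * t) • z := fun t => by
    simpa [refl] using tr 10 (by norm_num) t _ (v10 _)
  have he0 : e 10 ≠ 0 := by rcases (he 10 (by norm_num)).1 with h | h <;> simp [h]
  set u : Kˣ := Units.mk0 _ he0 / a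
  have conj0 : ∀ {r : ℕ} {w t : K}, w ≠ 0 →
      tor u (u ^ 2) * X r (t / w) * (tor u (u ^ 2))⁻¹ = X r (w * (t / w)) → ∀ l : ℂ,
      ρ (X r (t / w)) z = l • z →
      ρ (X r t) (ρ (tor u (u ^ 2)) z) = l • ρ (tor u (u ^ 2)) z := fun hw hh l hl => by
    rw [mul_div_cancel₀ _ hw] at hh
    exact eigen_conj ρ hh hl
  refine ⟨ρ (tor u (u ^ 2)) z, rho_ne ρ _ (rho_ne ρ _ hv0), fun t => ?_, mem_Wsp ρ (fun t => ?_)
    (fun t => ?_) (fun t => ?_), fun t => ?_⟩
  · simpa using conj0 (by simp) (tor_eight _ _ _) 1 (by rw [one_smul, z8])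
  · simpa using conj0 (t := t) (by simp) (tor_nine _ _ _) 1 (by rw [one_smul, z9])
  · simpa using conj0 (t := t) (by simp) (tor_ten _ _ _) 1 (by rw [one_smul, z10])
  · simpa using conj0 (t := t) (by simp) (tor_eleven _ _ _) 1 (by rw [one_smul, z11])
  · refine conj0 (w := ((↑(u ^ 2) : K)) ^ 2 / (u : K) ^ 3) (by simp) (tor_six _ _ _) _ ?_
    rw [z6]
    congr 2
    simp [u]
    field_simp

include hψ in
theorem card_le_Wsp (h3 : (3 : K) ≠ 0) (hq : 5 ≤ Fintype.card K) (h1 : m3 ρ ψ 0 0 1 = 1) :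
    Fintype.card K - 1 ≤ m3 ρ ψ 0 0 0 := by
  classical
  choose w hw0 _ hwW hw6 using fun a => exists_line ρ hψ h3 hq h1 a
  rw [← finrank_Wsp ρ, ← Fintype.card_units]
  refine card_le_eigen (fun t : K => ρ (X 6 t)) (χ := fun (a : Kˣ) t => ψ ((a : K) * t))
    (fun a b h => Units.ext (eq_of_char hψ fun t => congrFun h t)) hw0 (fun a t => hw6 a t) hwW

include hψ hinj

/-- The bound for q ≡ 2 (mod 3), valid for every q ≥ 5 prime to 3. -/
theorem bound_two (h3 : (3 : K) ≠ 0) (hq : 5 ≤ Fintype.card K) :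
    Fintype.card K ^ 3 - 1 ≤ Module.finrank ℂ V := by
  have hk := finrank_eq ρ hψ h3
  have hL : m3 ρ ψ 0 0 0 ≤ ∑ a, m3 ρ ψ a 0 0 :=
    Finset.single_le_sum (f := fun a => m3 ρ ψ a 0 0) (fun _ _ => Nat.zero_le _) (Finset.mem_univ _)
  have hq2 : 4 * Fintype.card K ≤ Fintype.card K ^ 3 := by
    have h16 := Nat.mul_le_mul hq hq
    nlinarith [Nat.mul_le_mul hq hq, Nat.zero_le (Fintype.card K)]
  rcases Nat.lt_or_ge (m3 ρ ψ 0 0 1) 2 with h | h
  · have h1 : m3 ρ ψ 0 0 1 = 1 := by have := m3_pos ρ hψ hinj h3; omega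
    have := card_le_Wsp ρ hψ h3 hq h1
    rw [h1] at hk
    omega
  · have a1 := Nat.mul_le_mul_right (m3 ρ ψ 0 0 1) hq2
    have a2 := Nat.mul_le_mul_left (Fintype.card K ^ 3) h
    rw [mul_assoc] at a1
    omega

/-- The situation to be excluded for q ≡ 1 (mod 3). -/
theorem small_case (h3 : (3 : K) ≠ 0) (hq : 7 ≤ Fintype.card K)
    (hk : Module.finrank ℂ V ≤ Fintype.card K ^ 3) :
    m3 ρ ψ 0 0 1 = 1 ∧ (∀ a, a ≠ 0 → m3 ρ ψ a 0 0 = 0) ∧
      Module.finrank ℂ V + Fintype.card K = Fintype.card K ^ 3 + m3 ρ ψ 0 0 0 ∧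
      Fintype.card K - 1 ≤ m3 ρ ψ 0 0 0 ∧ m3 ρ ψ 0 0 0 ≤ Fintype.card K := by
  classical
  have hke := finrank_eq ρ hψ h3
  have hq2 : 4 * Fintype.card K ≤ Fintype.card K ^ 3 := by
    have h16 := Nat.mul_le_mul hq hq
    nlinarith [Nat.mul_le_mul hq hq, Nat.zero_le (Fintype.card K)]
  have h1 : m3 ρ ψ 0 0 1 = 1 := by
    have := m3_pos ρ hψ hinj h3
    by_contra hne
    have a1 := Nat.mul_le_mul_right (m3 ρ ψ 0 0 1) hq2
    have a2 := Nat.mul_le_mul_left (Fintype.card K ^ 3) (show 2 ≤ m3 ρ ψ 0 0 1 by omega)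
    rw [mul_assoc] at a1
    have := Nat.pow_le_pow_left hq 3
    omega
  have hW := card_le_Wsp ρ hψ h3 (by omega) h1
  rw [h1] at hke
  rw [← Finset.add_sum_erase _ _ (Finset.mem_univ (0 : K))] at hke
  have huni : ∀ a : K, a ≠ 0 → m3 ρ ψ a 0 0 = m3 ρ ψ 1 0 0 := fun a ha => by
    have e := m3_tor ρ ψ (Units.mk0 a ha) 1 1 0 0
    simpa using e
  rw [Finset.sum_congr rfl (fun a ha => huni a (Finset.ne_of_mem_erase ha)), Finset.sum_const,
    smul_eq_mul, Finset.card_erase_of_mem (Finset.mem_univ _), Finset.card_univ] at hke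
  have hs : m3 ρ ψ 1 0 0 = 0 := by
    by_contra hne
    have := Nat.le_mul_of_pos_right (Fintype.card K - 1) (Nat.pos_of_ne_zero hne)
    omega
  rw [hs, mul_zero, add_zero] at hke
  refine ⟨h1, fun a ha => (huni a ha).trans hs, ?_, hW, ?_⟩ <;> omega

end CfsgLib.Known.G2Degree
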