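/-
Representations of G₂(q), q ≡ 1 (mod 3), of small degree: the radical fixed space.
-/
import Mathlib
import Cfsg.Agent.Lib.Known.G2Degree.Generic

set_option autoImplicit false
set_option linter.unusedSectionVars false
set_option maxRecDepth 20000

namespace CfsgLib.Known.G2Degree

open Cfsg.Lie CfsgLib.Chev

universe v

variable {K : Type v} [Field K]

/-- The shear induced by the root group of a. -/
def sh7 (s : K) : K × K × K ≃+ K × K × K where
  toFun p := (p.1, p.2.1 + s * p.1, p.2.2)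
  invFun p := (p.1, p.2.1 - s * p.1, p.2.2)
  left_inv p := Prod.ext rfl (Prod.ext (by dsimp; ring) rfl)
  right_inv p := Prod.ext rfl (Prod.ext (by dsimp; ring) rfl)
  map_add' p p' := Prod.ext rfl (Prod.ext (by dsimp; ring) rfl)

theorem seven_f3 (s : K) (p : K × K × K) :
    X 7 s * f3 p * (X 7 s)⁻¹ = f3 (sh7 (3 * s) p) := by
  rw [f3, conj_mul3, conj_seven_nine, conj_eq_self (cm 7 10 (by decide +kernel) _ _),
    conj_eq_self (cm 7 11 (by decide +kernel) _ _), mul_assoc (X 9 p.1), ← X_add (by norm_num)]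
  simp [f3, sh7, add_comm, mul_assoc]

variable [Fintype K] {V : Type*} [AddCommGroup V] [Module ℂ V] [FiniteDimensional ℂ V]
  (ρ : Representation ℂ ↥(chevG2.group K) V)

/-- An element normalising the subgroup preserves its fixed space. -/
theorem Wsp_move (g : ↥(chevG2.group K)) (e : K × K × K ≃+ K × K × K)
    (he : ∀ p, g * f3 p * g⁻¹ = f3 (e p)) : g ∈ stab ρ (Wsp ρ) := by
  rintro _ ⟨w, rfl⟩
  exact ⟨ρ g w, pr_move ρ f3 f3_add g e he (χ := 0) (χ' := 0) (fun _ => rfl) w⟩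

theorem pr_comm_op {G : Type*} [Group G] {W : Type*} [AddCommGroup W] [Module ℂ W]
    [FiniteDimensional ℂ W] (τ : Representation ℂ G W) {A : Type*} [AddCommGroup A] [Fintype A]
    (f : A → G) (T : Module.End ℂ W) (h : ∀ a w, T (τ (f a) w) = τ (f a) (T w))
    (χ : AddChar A ℂ) (w : W) : T (pr τ f χ w) = pr τ f χ (T w) := by
  simp [pr, D4Degree.proj, op, map_sum, h]

theorem six_mem (t : K) : X 6 t ∈ stab ρ (Wsp ρ) := Wsp_move ρ _ _ (six_f3 t)

theorem seven_mem (t : K) : X 7 t ∈ stab ρ (Wsp ρ) := Wsp_move ρ _ _ (seven_f3 t)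

theorem eight_mem (t : K) : X 8 t ∈ stab ρ (Wsp ρ) := Wsp_move ρ _ _ (eight_f3 t)

theorem five_mem (t : K) : X 5 t ∈ stab ρ (Wsp ρ) := Wsp_move ρ _ _ (five_f3 t)

theorem tor_mem (c d : Kˣ) : tor c d ∈ stab ρ (Wsp ρ) := Wsp_move ρ _ _ (tor_f3 c d)

theorem n6_mem : nn 1 ∈ stab ρ (Wsp ρ) := by
  obtain ⟨u, w, z, h⟩ := n6_f3 (K := K)
  exact Wsp_move ρ _ _ h

theorem Wsp_nine {v : V} (hv : v ∈ Wsp ρ) (t : K) : ρ (X 9 t) v = v := by
  rw [← f3_nine]; exact Wsp_fixed ρ hv _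

theorem Wsp_ten {v : V} (hv : v ∈ Wsp ρ) (t : K) : ρ (X 10 t) v = v := by
  rw [← f3_ten]; exact Wsp_fixed ρ hv _

theorem Wsp_eleven {v : V} (hv : v ∈ Wsp ρ) (t : K) : ρ (X 11 t) v = v := by
  rw [← f3_eleven]; exact Wsp_fixed ρ hv _

/-- The root groups of a and a+b commute on the fixed space. -/
theorem seven_eight {v : V} (hv : v ∈ Wsp ρ) (t u : K) :
    ρ (X 7 t) (ρ (X 8 u) v) = ρ (X 8 u) (ρ (X 7 t) v) := by
  have h : X 7 t * X 8 u =
      X 8 u * (X 9 (-2 * t * u) * (X 10 (-3 * t ^ 2 * u) * X 11 (3 * t * u ^ 2))) * X 7 t := by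
    rw [← conj_seven_eight, inv_mul_cancel_right]
  have hv' := seven_mem ρ t v hv
  rw [← rho_mul, h, rho_mul, rho_mul, rho_mul, rho_mul, Wsp_eleven ρ hv', Wsp_ten ρ hv',
    Wsp_nine ρ hv']

variable {ψ : AddChar K ℂ} (hψ : ψ ≠ 1) (ha : ∀ a, a ≠ 0 → m3 ρ ψ a 0 0 = 0)
include hψ ha

/-- A vector fixed by the root groups of 3a+b and 3a+2b is in the fixed space. -/
theorem mem_Wsp_of {v : V} (h10 : ∀ t, ρ (X 10 t) v = v) (h11 : ∀ t, ρ (X 11 t) v = v) :
    v ∈ Wsp ρ := by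
  refine mem_Wsp ρ (fun t => ?_) h10 h11
  rw [← f3_nine]
  refine fixed_of_pr ρ f3 f3_add _ v fun χ hχ => ?_
  obtain ⟨⟨a, b, g⟩, rfl⟩ := (ch3_bijective hψ).2 χ
  rcases em (b = 0) with rfl | hb
  · rcases em (g = 0) with rfl | hg
    · have ha0 : a ≠ 0 := fun h => hχ (by simp [ch3_apply, h])
      exact pr_eq_zero ρ f3 f3_add (ha a ha0) v
    · obtain ⟨x, hx⟩ : ∃ x, ψ (g * x) ≠ 1 := not_forall.1 fun h => hg (eq_zero_of_char hψ h)
      exact pr_eq_zero_of_fixed ρ f3 f3_add (a := (0, 0, x)) (by rw [f3_eleven, h11])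
        (by simpa [ch3_apply] using hx)
  · obtain ⟨x, hx⟩ : ∃ x, ψ (b * x) ≠ 1 := not_forall.1 fun h => hb (eq_zero_of_char hψ h)
    exact pr_eq_zero_of_fixed ρ f3 f3_add (a := (0, x, 0)) (by rw [f3_ten, h10])
      (by simpa [ch3_apply] using hx)

omit ha

variable (hL : m3 ρ ψ 0 0 0 ≤ Fintype.card K) (hq : 3 ≤ Fintype.card K)
include hL hq

/-- The root group of a+b fixes the fixed space. -/
theorem eight_trivial {v : V} (hv : v ∈ Wsp ρ) (t : K) : ρ (X 8 t) v = v := by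
  classical
  let τ := resW ρ (Wsp ρ)
  let g8 : K → ↥(stab ρ (Wsp ρ)) := fun t => ⟨X 8 t, eight_mem ρ t⟩
  let g7 : K → ↥(stab ρ (Wsp ρ)) := fun t => ⟨X 7 t, seven_mem ρ t⟩
  have h8 : ∀ a b, g8 (a + b) = g8 a * g8 b := fun a b => Subtype.ext (X_add (by norm_num) a b)
  have h7 : ∀ a b, g7 (a + b) = g7 a * g7 b := fun a b => Subtype.ext (X_add (by norm_num) a b)
  suffices hh : ∀ χ : AddChar K ℂ, χ ≠ 0 → mu τ g8 χ = 0 from
    congrArg Subtype.val (fix_of_mu τ g8 h8 hh t ⟨v, hv⟩)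
  intro χ hχ
  by_contra hne
  obtain ⟨w, hw0, hw⟩ := exists_vec τ g8 h8 hne
  obtain ⟨a, rfl⟩ : ∃ a, AddChar.mulShift ψ a = χ :=
    ((Fintype.bijective_iff_injective_and_card _).2
      ⟨AddChar.to_mulShift_inj_of_isPrimitive (AddChar.IsPrimitive.of_ne_one hψ),
        AddChar.card_eq.symm⟩).2 χ
  have ha0 : a ≠ 0 := by
    rintro rfl
    exact hχ (DFunLike.ext _ _ fun x => by simp [AddChar.mulShift_apply])
  have hwV : ∀ t, ρ (X 8 t) (w : V) = ψ (a * t) • (w : V) := fun t => congrArg Subtype.val (hw t)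
  have all8 : ∀ u : Kˣ, ∃ z : Wsp ρ, z ≠ 0 ∧ ∀ t, ρ (X 8 t) (z : V) = ψ (u * t) • (z : V) := by
    intro u
    let c : Kˣ := Units.mk0 a ha0 / u
    refine ⟨⟨ρ (tor c (c ^ 2)) w, tor_mem ρ _ _ _ w.2⟩,
      fun h => rho_ne ρ _ (fun h' => hw0 (Subtype.ext h')) (congrArg Subtype.val h), fun t => ?_⟩
    have e : tor c (c ^ 2) * X 8 (t / c) * (tor c (c ^ 2))⁻¹ = X 8 t := by
      rw [tor_eight]; congr 1; simp; field_simp
    refine eigen_conj ρ e ?_
    rw [hwV]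
    congr 2
    simp [c]
    field_simp
  have pairs : ∀ p : K × Kˣ, ∃ z : Wsp ρ, z ≠ 0 ∧
      (∀ t, ρ (X 7 t) (z : V) = ψ (p.1 * t) • (z : V)) ∧
      ∀ t, ρ (X 8 t) (z : V) = ψ (p.2 * t) • (z : V) := by
    rintro ⟨b, u⟩
    obtain ⟨z, hz0, hz⟩ := all8 u
    obtain ⟨χ7, h7ne⟩ : ∃ χ7, pr τ g7 χ7 z ≠ 0 := by
      by_contra! h
      exact hz0 (by rw [← sum_pr τ g7 h7 z]; exact Finset.sum_eq_zero fun χ7 _ => h χ7)
    obtain ⟨c, rfl⟩ : ∃ c, AddChar.mulShift ψ c = χ7 :=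
      ((Fintype.bijective_iff_injective_and_card _).2
        ⟨AddChar.to_mulShift_inj_of_isPrimitive (AddChar.IsPrimitive.of_ne_one hψ),
          AddChar.card_eq.symm⟩).2 χ7
    set y := pr τ g7 (AddChar.mulShift ψ c) z with hy
    have y7 : ∀ t, ρ (X 7 t) (y : V) = ψ (c * t) • (y : V) := fun t =>
      congrArg Subtype.val (eigen_pr τ g7 h7 (AddChar.mulShift ψ c) z t)
    have y8 : ∀ t, ρ (X 8 t) (y : V) = ψ (u * t) • (y : V) := fun t => by
      have e : τ (g8 t) y = ψ (u * t) • y := by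
        rw [hy, pr_comm_op τ g7 (τ (g8 t))
          (fun a w => Subtype.ext (seven_eight ρ w.2 a t).symm), ← map_smul]
        exact congrArg _ (Subtype.ext (hz t))
      exact congrArg Subtype.val e
    have hy0 : (y : V) ≠ 0 := fun h => h7ne (Subtype.ext h)
    set s := (c - b) / (u : K) with hs
    refine ⟨⟨ρ (X 6 s) y, six_mem ρ s _ y.2⟩, fun h => rho_ne ρ _ hy0 (congrArg Subtype.val h),
      fun t => ?_, fun t => ?_⟩
    · have e : X 6 s * (X 7 t * (X 8 (-s * t) * (X 9 (-s * t ^ 2) *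
          (X 10 (-(-s * t ^ 3)) * X 11 (-2 * (-s) ^ 2 * t ^ 3))))) * (X 6 s)⁻¹ = X 7 t := by
        rw [← conj_six_seven, X_neg (by norm_num)]
        group
      refine eigen_conj ρ e ?_
      rw [rho_mul, rho_mul, rho_mul, rho_mul, Wsp_eleven ρ y.2, Wsp_ten ρ y.2, Wsp_nine ρ y.2, y8,
        map_smul, y7, smul_smul, ← AddChar.map_add_eq_mul]
      congr 2
      rw [hs]
      field_simp
      ring
    · exact eigen_conj ρ (conj_eq_self (cm 6 8 (by decide +kernel) s t)) (y8 t)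
  choose z hz0 hz7 hz8 using pairs
  have hcard := card_le_eigen (ι := K × Kˣ) (J := K ⊕ K)
    (fun j => Sum.elim (fun t => ρ (X 7 t)) (fun t => ρ (X 8 t)) j) (v := fun p => (z p : V))
    (χ := fun p j => Sum.elim (fun t => ψ (p.1 * t)) (fun t => ψ ((p.2 : K) * t)) j)
    (fun p p' h => Prod.ext (eq_of_char hψ fun t => congrFun h (Sum.inl t))
      (Units.ext (eq_of_char hψ fun t => congrFun h (Sum.inr t))))
    (fun p h => hz0 p (Subtype.ext h))
    (fun p j => by rcases j with t | t <;> simp [hz7, hz8]) (fun p => (z p).2)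
  rw [finrank_Wsp ρ (ψ := ψ), Fintype.card_prod, Fintype.card_units] at hcard
  have := Nat.mul_le_mul_left (Fintype.card K) (show 2 ≤ Fintype.card K - 1 by omega)
  omega

/-- The root group of a fixes the fixed space. -/
theorem seven_trivial {v : V} (hv : v ∈ Wsp ρ) (t : K) : ρ (X 7 t) v = v := by
  obtain ⟨e, he⟩ := exists_sign (K := K) 1
  have h := (he 8 (by norm_num)).2 (e 8 * t)
  have h88 : e 8 * (e 8 * t) = t := by rcases (he 8 (by norm_num)).1 with h | h <;> simp [h]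
  rw [h88] at h
  have hr : refl (1 : Fin 2) 8 = 7 := rfl
  rw [hr] at h
  have hw : ρ (nn 1)⁻¹ v ∈ Wsp ρ := inv_mem (n6_mem ρ) v hv
  have e8 := eight_trivial ρ hψ hL hq hw (e 8 * t)
  have := eigen_conj ρ h (c := 1) (by rw [one_smul, e8])
  rwa [rho_cancel', one_smul] at this

omit hψ hL hq

/-- The root group of b inside the stabiliser of the fixed space. -/
noncomputable def g6 (t : K) : ↥(stab ρ (Wsp ρ)) := ⟨X 6 t, six_mem ρ t⟩

theorem g6_add (a b : K) : g6 ρ (a + b) = g6 ρ a * g6 ρ b := Subtype.ext (X_add (by norm_num) a b)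

variable (ψ) in
/-- The multiplicity of a character of the root group of b on the fixed space. -/
noncomputable def m6 (a : K) : ℕ := mu (resW ρ (Wsp ρ)) (g6 ρ) (AddChar.mulShift ψ a)

include hψ in
theorem mulShift_bijective : Function.Bijective (AddChar.mulShift ψ) :=
  (Fintype.bijective_iff_injective_and_card _).2
    ⟨AddChar.to_mulShift_inj_of_isPrimitive (AddChar.IsPrimitive.of_ne_one hψ),
      AddChar.card_eq.symm⟩

include hψ in
theorem sum_m6 : ∑ a, m6 ρ ψ a = m3 ρ ψ 0 0 0 := by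
  rw [← finrank_Wsp ρ (ψ := ψ), ← sum_mu (resW ρ (Wsp ρ)) (g6 ρ) (g6_add ρ)]
  exact Fintype.sum_bijective _ (mulShift_bijective hψ) _ _ fun p => rfl

theorem m6_scale (u : Kˣ) (a : K) : m6 ρ ψ (a * u) = m6 ρ ψ a :=
  mu_move (resW ρ (Wsp ρ)) (g6 ρ) (g6_add ρ) ⟨tor u (u ^ 2), tor_mem ρ _ _⟩
    (AddAut.mulLeft u) (fun t => Subtype.ext (by
      show tor u (u ^ 2) * X 6 t * (tor u (u ^ 2))⁻¹ = X 6 ((u : K) * t)
      rw [tor_six]
      congr 2
      simp
      field_simp)) fun t => by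
    rw [AddChar.mulShift_apply, AddChar.mulShift_apply, mul_assoc]
    rfl

include hψ in
/-- On the fixed space every non-trivial character of the root group of b occurs once. -/
theorem m6_eq (h3 : (3 : K) ≠ 0) (hq : 5 ≤ Fintype.card K) (h1 : m3 ρ ψ 0 0 1 = 1)
    (hL : m3 ρ ψ 0 0 0 ≤ Fintype.card K) :
    (∀ a, a ≠ 0 → m6 ρ ψ a = 1) ∧ m3 ρ ψ 0 0 0 = Fintype.card K - 1 + m6 ρ ψ 0 := by
  classical
  have hu : ∀ a : K, a ≠ 0 → m6 ρ ψ a = m6 ρ ψ 1 := fun a ha => by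
    simpa using m6_scale ρ (Units.mk0 a ha) 1
  have h1' : 1 ≤ m6 ρ ψ 1 := by
    obtain ⟨w, hw0, -, hwW, hw6⟩ := exists_line ρ hψ h3 hq h1 1
    exact mu_pos _ _ (g6_add ρ) (v := (⟨w, hwW⟩ : Wsp ρ)) (fun h => hw0 (congrArg Subtype.val h))
      fun t => Subtype.ext (by simpa [g6, resW_apply, AddChar.mulShift_apply] using hw6 t)
  have hs := sum_m6 ρ hψ
  rw [← Finset.add_sum_erase _ _ (Finset.mem_univ (0 : K)),
    Finset.sum_congr rfl (fun a ha => hu a (Finset.ne_of_mem_erase ha)), Finset.sum_const,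
    smul_eq_mul, Finset.card_erase_of_mem (Finset.mem_univ _), Finset.card_univ] at hs
  have hone : m6 ρ ψ 1 = 1 := by
    by_contra hne
    have := Nat.mul_le_mul_left (Fintype.card K - 1) (show 2 ≤ m6 ρ ψ 1 by omega)
    omega
  rw [hone, mul_one] at hs
  exact ⟨fun a ha => (hu a ha).trans hone, by omega⟩

/-- A character line of the root group of b on the fixed space. -/
theorem six_line {a : K} (h : m6 ρ ψ a = 1) {w z : V} (hw : w ∈ Wsp ρ) (hw0 : w ≠ 0)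
    (hw6 : ∀ t, ρ (X 6 t) w = ψ (a * t) • w) (hz : z ∈ Wsp ρ)
    (hz6 : ∀ t, ρ (X 6 t) z = ψ (a * t) • z) : ∃ c : ℂ, z = c • w := by
  have hmem : ∀ (y : V) (hy : y ∈ Wsp ρ), (∀ t, ρ (X 6 t) y = ψ (a * t) • y) →
      (⟨y, hy⟩ : Wsp ρ) ∈
        LinearMap.range (pr (resW ρ (Wsp ρ)) (g6 ρ) (AddChar.mulShift ψ a)) := fun y hy h6 =>
    mem_range _ _ (g6_add ρ) fun t => Subtype.ext
      (by simpa [g6, resW_apply, AddChar.mulShift_apply] using h6 t)
  obtain ⟨c, hc⟩ := exists_smul_eq_of_finrank_eq_one h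
    (x := (⟨_, hmem w hw hw6⟩ : LinearMap.range _))
    (fun e => hw0 (congrArg (fun y => ((y.1 : Wsp ρ) : V)) e)) ⟨_, hmem z hz hz6⟩
  exact ⟨c, (congrArg (fun y => ((y.1 : Wsp ρ) : V)) hc).symm⟩

end CfsgLib.Known.G2Degree
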