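/-
G₂(q), q ≡ 1 (mod 3): there is no faithful representation of degree q³ − 1.
-/
import Mathlib
import Cfsg.Agent.Lib.Known.G2Degree.QCommon

set_option autoImplicit false
set_option linter.unusedSectionVars false
set_option maxRecDepth 20000

namespace CfsgLib.Known.G2Degree

open Cfsg.Lie CfsgLib.Chev

universe v

variable {K : Type v} [Field K]

/-- The subgroup of the root groups of −(3a+b) and −(3a+2b). -/
noncomputable def f01 (p : K × K) : ↥(chevG2.group K) := X 1 p.1 * X 0 p.2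

theorem f01_add (p p' : K × K) : f01 (p + p') = f01 p * f01 p' := by
  simp only [f01, Prod.fst_add, Prod.snd_add, X_add (show 1 < 12 by norm_num),
    X_add (show 0 < 12 by norm_num)]
  exact (cm 1 0 (by decide +kernel) _ _).mul_mul_mul_comm _ _

theorem tor_commute_X {c d : Kˣ} {r : ℕ} {w : K}
    (h : ∀ t, tor c d * X r t * (tor c d)⁻¹ = X r (w * t)) (hw : w = 1) (t : K) :
    Commute (tor c d) (X r t) := by
  have e := h t
  rw [hw, one_mul, mul_inv_eq_iff_eq_mul] at e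
  exact e

variable [Fintype K] {V : Type*} [AddCommGroup V] [Module ℂ V] [FiniteDimensional ℂ V]
  (ρ : Representation ℂ ↥(chevG2.group K) V)

theorem rho_comm {G : Type*} [Group G] (τ : Representation ℂ G V) {a b : G} (h : Commute a b)
    (v : V) : τ a (τ b v) = τ b (τ a v) := by
  rw [← rho_mul, h.eq, rho_mul]

variable {ψ : AddChar K ℂ} (hψ : ψ ≠ 1)
include hψ

/-- A torus element of order three acts by a scalar on the fixed space when that space has the
least dimension. -/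
theorem scalar_on_Wsp (h3 : (3 : K) ≠ 0) (hq : 5 ≤ Fintype.card K) (h1 : m3 ρ ψ 0 0 1 = 1)
    (hm : ∀ a, a ≠ 0 → m6 ρ ψ a = 1) (hm0 : m6 ρ ψ 0 = 0) {ω : Kˣ} (hω : ω ^ 3 = 1) :
    ∃ μ : ℂ, ∀ w ∈ Wsp ρ, ρ (tor ω 1) w = μ • w := by
  classical
  have hω' : (ω : K) ^ 3 = 1 := by rw [← Units.val_pow_eq_pow_val, hω, Units.val_one]
  have ht6 : ∀ s, Commute (tor ω 1) (X 6 s) :=
    tor_commute_X (tor_six ω 1) (by simp [hω'])
  obtain ⟨w, hw0, -, hwW, hw6⟩ := exists_line ρ hψ h3 hq h1 1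
  obtain ⟨μ, hμ⟩ := six_line ρ (hm 1 one_ne_zero) hwW hw0 (fun t => by simpa using hw6 t)
    (tor_mem ρ ω 1 w hwW) fun t => by
      rw [← rho_comm ρ (ht6 t), hw6]
      simp
  refine ⟨μ, fun z hz => ?_⟩
  have key : ∀ χ : AddChar K ℂ, ∀ y, y = pr (resW ρ (Wsp ρ)) (g6 ρ) χ ⟨z, hz⟩ →
      ρ (tor ω 1) (y : V) = μ • (y : V) := by
    intro χ y hy
    obtain ⟨a, rfl⟩ := (mulShift_bijective hψ).2 χ
    by_cases ha : a = 0
    · subst ha
      rw [hy, pr_eq_zero _ _ (g6_add ρ) hm0]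
      simp
    have hy6 : ∀ t, ρ (X 6 t) (y : V) = ψ (a * t) • (y : V) := fun t => by
      have e := congrArg Subtype.val
        (eigen_pr (resW ρ (Wsp ρ)) (g6 ρ) (g6_add ρ) (AddChar.mulShift ψ a) ⟨z, hz⟩ t)
      rw [← hy] at e
      exact e
    let c : Kˣ := (Units.mk0 a ha)⁻¹
    have hwc6 : ∀ t, ρ (X 6 t) (ρ (tor c (c ^ 2)) w) = ψ (a * t) • ρ (tor c (c ^ 2)) w := fun t => by
      have e : tor c (c ^ 2) * X 6 (a * t) * (tor c (c ^ 2))⁻¹ = X 6 t := by
        rw [tor_six]; congr 2; simp [c]; field_simp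
      exact eigen_conj ρ e (by rw [hw6]; simp)
    obtain ⟨l, hl⟩ := six_line ρ (hm a ha) (tor_mem ρ _ _ w hwW) (rho_ne ρ _ hw0) hwc6 y.2 hy6
    rw [hl, map_smul, rho_comm ρ (tor_commute ω 1 c (c ^ 2)), hμ, map_smul, smul_comm]
  have e := congrArg Subtype.val (sum_pr (resW ρ (Wsp ρ)) (g6 ρ) (g6_add ρ) ⟨z, hz⟩)
  rw [AddSubmonoidClass.coe_finsetSum] at e
  calc ρ (tor ω 1) z = ρ (tor ω 1) (∑ χ, ((pr (resW ρ (Wsp ρ)) (g6 ρ) χ ⟨z, hz⟩ : Wsp ρ) : V)) := by
        rw [e]
    _ = _ := by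
      rw [map_sum, Finset.sum_congr rfl (fun χ _ => key χ _ rfl), ← Finset.smul_sum, e]

/-- The translates of the fixed space by the root groups of −(3a+b), −(3a+2b) are independent. -/
theorem kill (hm : m6 ρ ψ 0 = 0) {w : V} (hw : w ∈ Wsp ρ) {d : K × K} (hd : d ≠ 0) :
    pr ρ f3 0 (ρ (f01 d) w) = 0 := by
  classical
  have one : ∀ {s : K}, s ≠ 0 → ∀ {w : V}, w ∈ Wsp ρ → pr ρ f3 0 (ρ (X 1 s) w) = 0 := by
    intro s hs w hw
    have e := congrArg Subtype.val (sum_pr (resW ρ (Wsp ρ)) (g6 ρ) (g6_add ρ) ⟨w, hw⟩)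
    rw [AddSubmonoidClass.coe_finsetSum] at e
    rw [show w = _ from e.symm, map_sum, map_sum]
    refine Finset.sum_eq_zero fun χ _ => ?_
    obtain ⟨a, rfl⟩ := (mulShift_bijective hψ).2 χ
    set y := pr (resW ρ (Wsp ρ)) (g6 ρ) (AddChar.mulShift ψ a) ⟨w, hw⟩ with hy
    by_cases ha : a = 0
    · subst ha
      rw [hy, pr_eq_zero _ _ (g6_add ρ) hm]
      simp
    have hy6 : ∀ t, ρ (X 6 t) (y : V) = ψ (a * t) • (y : V) := fun t =>
      congrArg Subtype.val
        (eigen_pr (resW ρ (Wsp ρ)) (g6 ρ) (g6_add ρ) (AddChar.mulShift ψ a) ⟨w, hw⟩ t)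
    obtain ⟨x, hx⟩ : ∃ x, ψ (a * (s * x)) ≠ 1 := not_forall.1 fun h =>
      mul_ne_zero ha hs (eq_zero_of_char hψ fun x => by rw [mul_assoc]; exact h x)
    have hh : X 1 s * (X 11 x * X 6 (-(-s * x))) * (X 1 s)⁻¹ = X 11 x := by
      rw [← conj_one_eleven, X_neg (by norm_num)]
      group
    have hz : ρ (X 11 x) (ρ (X 1 s) (y : V)) = ψ (a * (s * x)) • ρ (X 1 s) (y : V) :=
      eigen_conj ρ hh (by
        rw [rho_mul, hy6, map_smul, Wsp_eleven ρ y.2, neg_mul, neg_neg])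
    have h2 := pr_act ρ f3 f3_add 0 (0, 0, x) (ρ (X 1 s) (y : V))
    rw [f3_eleven, hz, map_smul, AddChar.zero_apply, one_smul] at h2
    by_contra hne
    exact hx (smul_left_injective ℂ hne (by simpa only [one_smul] using h2))
  rw [f01, rho_mul]
  rcases d with ⟨s, t⟩
  dsimp only
  by_cases hs : s = 0
  · have ht : t ≠ 0 := fun ht => hd (by rw [hs, ht]; rfl)
    obtain ⟨e, he⟩ := exists_sign (K := K) 1
    have h := (he 1 (by norm_num)).2 (e 1 * t)
    have he1 : e 1 ≠ 0 := by rcases (he 1 (by norm_num)).1 with h | h <;> simp [h]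
    have hee : e 1 * (e 1 * t) = t := by rcases (he 1 (by norm_num)).1 with h | h <;> simp [h]
    rw [hee, show refl (1 : Fin 2) 1 = 0 from rfl] at h
    obtain ⟨u, w', z, hn⟩ := n6_f3 (K := K)
    rw [hs, X_zero (by norm_num), map_one, Module.End.one_apply, ← h, rho_mul, rho_mul,
      pr_move ρ f3 f3_add _ _ hn (χ := 0) (χ' := 0) (fun _ => rfl),
      one (mul_ne_zero he1 ht) (inv_mem (n6_mem ρ) w hw), map_zero]
  · have h : X 1 s * X 0 t = X 5 (-t / s) * X 1 s * (X 5 (-t / s))⁻¹ := by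
      rw [conj_five_one]
      congr 2
      field_simp
    rw [← rho_mul, h, rho_mul, rho_mul,
      pr_move ρ f3 f3_add _ _ (five_f3 _) (χ := 0) (χ' := 0) (fun _ => rfl),
      one hs (inv_mem (five_mem ρ _) w hw), map_zero]

/-- There is no faithful representation of degree q³ − 1. -/
theorem not_cube_sub_one (h3 : (3 : K) ≠ 0) (hq : 7 ≤ Fintype.card K) (h1 : m3 ρ ψ 0 0 1 = 1)
    (hW : m3 ρ ψ 0 0 0 = Fintype.card K - 1)
    (hk : Module.finrank ℂ V = Fintype.card K ^ 3 - 1) {ω : Kˣ} (hω : ω ^ 3 = 1) (hω1 : ω ≠ 1) :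
    False := by
  classical
  obtain ⟨hm, hm0⟩ := m6_eq ρ hψ h3 (by omega) h1 (by omega)
  have hm0' : m6 ρ ψ 0 = 0 := by omega
  obtain ⟨μ, hμ⟩ := scalar_on_Wsp ρ hψ h3 (by omega) h1 hm hm0' hω
  have hω' : (ω : K) ^ 3 = 1 := by rw [← Units.val_pow_eq_pow_val, hω, Units.val_one]
  have ht01 : ∀ p, Commute (tor ω 1) (f01 p) := fun p =>
    (tor_commute_X (tor_one ω 1) (by simp [hω']) p.1).mul_right
      (tor_commute_X (tor_zero ω 1) (by simp) p.2)
  let T : Module.End ℂ V := ρ (tor ω 1) - μ • 1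
  have hT : ∀ v, T v = ρ (tor ω 1) v - μ • v := fun v => rfl
  let Φ : (K × K → Wsp ρ) →ₗ[ℂ] LinearMap.ker T :=
    LinearMap.codRestrict _
      (∑ p : K × K, (ρ (f01 p)).comp ((Wsp ρ).subtype.comp (LinearMap.proj p))) fun w => by
      rw [LinearMap.mem_ker, LinearMap.sum_apply, map_sum]
      refine Finset.sum_eq_zero fun p _ => ?_
      show T (ρ (f01 p) (w p : V)) = 0
      rw [hT, rho_comm ρ (ht01 p), hμ _ (w p).2, map_smul, sub_self]
  have hΦ : Function.Injective Φ := by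
    rw [injective_iff_map_eq_zero]
    intro w hw
    funext p₀
    refine Subtype.ext ?_
    have e : (∑ p : K × K, ρ (f01 p) (w p : V)) = 0 := by
      have := congrArg Subtype.val hw
      simpa [Φ, LinearMap.sum_apply] using this
    have e2 := congrArg (fun x => pr ρ f3 0 (ρ (f01 (-p₀)) x)) e
    simp only [map_sum, map_zero, ← rho_mul, ← f01_add] at e2
    rw [Finset.sum_eq_single p₀
      (fun p _ hp => kill ρ hψ hm0' (w p).2 (fun h => hp (by linear_combination (norm := abel) h)))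
      (by simp), neg_add_cancel, show f01 (0 : K × K) = 1 by simp [f01, X_zero],
      map_one, Module.End.one_apply] at e2
    obtain ⟨y, hy⟩ := (w p₀).2
    rw [← hy, pr_idem ρ f3 f3_add, hy] at e2
    exact e2
  have hker := LinearMap.finrank_le_finrank_of_injective hΦ
  rw [Module.finrank_pi_fintype ℂ, Finset.sum_const, Finset.card_univ, Fintype.card_prod,
    finrank_Wsp ρ (ψ := ψ), hW, smul_eq_mul] at hker
  obtain ⟨c, hc⟩ : ∃ c : Kˣ, c ≠ 1 ∧ c ≠ ω ∧ c ≠ ω ^ 2 := by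
    by_contra! h
    have hsub : (Finset.univ : Finset Kˣ) ⊆ {1, ω, ω ^ 2} := fun c _ => by
      simp only [Finset.mem_insert, Finset.mem_singleton]
      by_cases h1 : c = 1
      · exact Or.inl h1
      by_cases h2 : c = ω
      · exact Or.inr (Or.inl h2)
      exact Or.inr (Or.inr (h c h1 h2))
    have := (Finset.card_le_card hsub).trans Finset.card_le_three
    rw [Finset.card_univ, Fintype.card_units] at this
    omega
  let D : Bool → K := fun i => if i then 1 else c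
  have hD : ∀ i j, D i / (ω : K) ≠ D j := by
    intro i j h
    rw [div_eq_iff ω.ne_zero] at h
    cases i <;> cases j <;> simp [D] at h
    · exact hω1 (by simpa using h)
    · exact hc.2.1 (Units.ext h)
    · exact hc.2.2 (Units.ext (by
        push_cast
        linear_combination (-(c : K)) * hω' - (ω : K) ^ 2 * h))
    · exact hω1 (Units.val_eq_one.1 h.symm)
  let ι := Bool × {p : K × K // p ≠ 0}
  have hv : ∀ i : ι, ∃ v : V, v ≠ 0 ∧
      ∀ p, ρ (f3 p) v = ch3 ψ (D i.1, i.2.1.1, i.2.1.2) p • v := fun i =>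
    exists_vec ρ f3 f3_add (by
      have := (m3_eq ρ ψ h3 (D i.1) i.2.1.1 i.2.1.2
        fun h => i.2.2 (Prod.ext h.1 h.2)).trans h1
      rw [show mu ρ f3 (ch3 ψ (D i.1, i.2.1.1, i.2.1.2)) = 1 from this]
      norm_num)
  choose v hv0 hv using hv
  let θ : ι → AddChar (K × K × K) ℂ := fun i => ch3 ψ (D i.1 / ω, i.2.1.1, i.2.1.2)
  have hθinj : Function.Injective θ := fun i j h => by
    have h' := (ch3_bijective hψ).1 h
    simp only [Prod.mk.injEq] at h'
    obtain ⟨e1, e2, e3⟩ := h'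
    refine Prod.ext ?_ (Subtype.ext (Prod.ext e2 e3))
    rw [div_left_inj' ω.ne_zero] at e1
    by_contra hne
    have hc1 : (c : K) ≠ 1 := fun h => hc.1 (Units.ext h)
    rcases i with ⟨_ | _, _⟩ <;> rcases j with ⟨_ | _, _⟩ <;> simp [D, hc1, hc1.symm] at e1 hne
  have hz : ∀ i, ∀ p, ρ (f3 p) (ρ (tor ω 1) (v i)) = θ i p • ρ (tor ω 1) (v i) := by
    intro i p
    have e : tor ω 1 * f3 (p.1 / ω, p.2.1, p.2.2) * (tor ω 1)⁻¹ = f3 p := by
      rw [tor_f3]
      congr 1
      refine Prod.ext ?_ (Prod.ext ?_ ?_) <;> simp [sc3, hω', mul_div_cancel₀]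
    refine eigen_conj ρ e ?_
    rw [hv]
    congr 1
    simp only [θ, ch3_apply]
    congr 1
    ring
  have hli : LinearIndependent ℂ fun i => T (v i) := Fintype.linearIndependent_iff.2 fun l hl i => by
    have e := congrArg (pr ρ f3 (θ i)) hl
    simp only [map_sum, map_smul, map_zero, hT, map_sub, pr_of_eigen ρ f3 f3_add (hv _),
      pr_of_eigen ρ f3 f3_add (hz _)] at e
    rw [Finset.sum_eq_single i ?_ (by simp)] at e
    · rw [if_pos rfl, if_neg (fun h => ?_), smul_zero, sub_zero] at e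
      · exact (smul_eq_zero.1 e).resolve_right (rho_ne ρ _ (hv0 i))
      · exact hD _ _ (Prod.ext_iff.1 ((ch3_bijective hψ).1 h)).1
    · intro j _ hj
      rw [if_neg (fun h => hj (hθinj h).symm), if_neg (fun h => ?_), smul_zero, sub_zero, smul_zero]
      exact hD _ _ (Prod.ext_iff.1 ((ch3_bijective hψ).1 h)).1
  have hrange : Fintype.card ι ≤ Module.finrank ℂ (LinearMap.range T) := by
    rw [← finrank_span_eq_card hli]
    exact Submodule.finrank_mono (Submodule.span_le.2 (by rintro _ ⟨i, rfl⟩; exact ⟨v i, rfl⟩))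
  have hsum := LinearMap.finrank_range_add_finrank_ker T
  rw [Fintype.card_prod, Fintype.card_bool, Fintype.card_subtype_compl, Fintype.card_subtype_eq,
    Fintype.card_prod] at hrange
  have h49 := Nat.mul_le_mul hq hq
  have hcube : Fintype.card K ^ 3 =
      Fintype.card K * Fintype.card K * (Fintype.card K - 1) + Fintype.card K * Fintype.card K := by
    conv_rhs => rw [← Nat.mul_succ, Nat.succ_eq_add_one, Nat.sub_add_cancel (by omega : 1 ≤ Fintype.card K)]
    ring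
  omega

end CfsgLib.Known.G2Degree
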