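/-
Sums of functions on G₂(q) invariant under the Borel subgroup on the left and its unipotent radical on the right.
-/
import Mathlib
import Cfsg.Agent.Lib.Known.G2Degree.Elems
import Cfsg.Agent.Lib.Chev.Data.WeylG2
import Cfsg.Agent.Lib.Chev.Order

set_option autoImplicit false
set_option maxRecDepth 20000
set_option linter.style.haveILetI false

namespace CfsgLib.Known.G2Degree

open Cfsg.Lie CfsgLib.Chev

universe v

variable {K : Type v} [Field K]

/-- The word representative inside the group. -/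
noncomputable def nWg (l : List (Fin 2)) : ↥(chevG2.group K) :=
  ⟨nW chevG2 K l, DataG2.facts.monomial_le_group (DataG2.facts.nW_mem _)⟩

theorem nWg_nil : nWg ([] : List (Fin 2)) = (1 : ↥(chevG2.group K)) := rfl

theorem nWg_cons (i : Fin 2) (l : List (Fin 2)) :
    nWg (i :: l) = (nn i * nWg l : ↥(chevG2.group K)) :=
  Subtype.ext (nW_cons (D := chevG2) i l)

/-- The image of a root under a word. -/
def pimg : List (Fin 2) → ℕ → ℕ
  | [], s => s
  | i :: l, s => refl i (pimg l s)

theorem sW_val : ∀ (l : List (Fin 2)) (s : Fin 12),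
    ((sW chevG2 l s : Fin chevG2.nroots) : ℕ) = pimg l s
  | [], s => rfl
  | i :: l, s => by
    refine (congrArg (fun σ : Equiv.Perm (Fin chevG2.nroots) => (σ s).val)
      (sW_cons (D := chevG2) i l)).trans ((DataG2.facts.sP_val i (sW chevG2 l s)).trans ?_)
    refine (refl_eq i (sW chevG2 l s)).1.trans ?_
    exact congrArg (refl i) (sW_val l s)

/-- The twelve reduced words. -/
def words : Fin 12 → List (Fin 2) :=
  ![[], [0], [1], [0, 1], [1, 0], [0, 1, 0], [1, 0, 1], [0, 1, 0, 1], [1, 0, 1, 0], [0, 1, 0, 1, 0],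
    [1, 0, 1, 0, 1], [0, 1, 0, 1, 0, 1]]

theorem words_distinct : ∀ k m : Fin 12,
    (∀ s : Fin 12, pimg (words k) s = pimg (words m) s) → k = m := by
  decide +kernel

theorem words_injective : Function.Injective fun k => sW chevG2 (words k) := fun k m h =>
  words_distinct k m fun s => by rw [← sW_val, ← sW_val]; exact congrArg Fin.val (Equiv.ext_iff.1 h s)

theorem wFin_eq [DecidableEq (Equiv.Perm (Fin chevG2.nroots))] :
    wFin chevG2 chevG2.rank = Finset.univ.image fun k => sW chevG2 (words k) := by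
  refine (Finset.eq_of_subset_of_card_le (fun σ hσ => ?_) ?_).symm
  · obtain ⟨k, -, rfl⟩ := Finset.mem_image.1 hσ
    exact mem_wFin_rank.2 ⟨_, rfl⟩
  · rw [DataG2.weyl_poincare.2, Finset.card_image_of_injective _ words_injective, Finset.card_univ,
      Fintype.card_fin]

theorem flip_words : ∀ k : Fin 12,
    (Finset.univ.filter fun r : Fin 12 => 6 ≤ r.val ∧ pimg (words k) r < 6).card =
      (words k).length := by
  decide +kernel

theorem flipNum_words (k : Fin 12) : flipNum (sW chevG2 (words k)) = (words k).length := by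
  rw [← flip_words k, flipNum]
  exact congrArg Finset.card (Finset.filter_congr fun r _ =>
    and_congr Iff.rfl (Iff.of_eq (congrArg (· < 6) (sW_val (words k) r))))

variable [Fintype K]

/-- A sum over the group, cell by cell. -/
theorem sum_group [Fintype ↥(chevG2.group K)] (F : ↥(chevG2.group K) → ℂ)
    (hl : ∀ b g : ↥(chevG2.group K), (b : GL chevG2.Idx K) ∈ chevG2.borelSubgroup K →
      F (b * g) = F g)
    (hr : ∀ u g : ↥(chevG2.group K),
      (u : GL chevG2.Idx K) ∈ rootClosure chevG2 K (chevG2.nroots / 2 ≤ ·) → F (g * u) = F g) :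
    ∑ g, F g = (Nat.card ↥(chevG2.borelSubgroup K) : ℂ) *
      ∑ k, (Fintype.card K : ℂ) ^ (words k).length * F (nWg (words k)) := by
  classical
  have hF := DataG2.facts
  let σ : Fin 12 → Equiv.Perm (Fin chevG2.nroots) := fun k => sW chevG2 (words k)
  have hact : ∀ k, PermAct (nW chevG2 K (words k)) (σ k) := fun k => hF.permAct_nW _
  have hmem : ∀ (k : Fin 12) (b : ↥(chevG2.borelSubgroup K))
      (u : ↥(rootClosure chevG2 K (PosFlip (σ k)))),
      (b : GL chevG2.Idx K) * nW chevG2 K (words k) * u ∈ chevG2.group K := fun k b u =>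
    Subgroup.mul_mem _ (Subgroup.mul_mem _ (hF.borel_le_group b.2)
      (hF.monomial_le_group (hF.nW_mem _)))
      (hF.pos_le_group (rootClosure_mono (fun _ _ h => h.2.1) u.2))
  let e : (Σ k : Fin 12, ↥(chevG2.borelSubgroup K) × ↥(rootClosure chevG2 K (PosFlip (σ k)))) →
      ↥(chevG2.group K) := fun p => ⟨_, hmem p.1 p.2.1 p.2.2⟩
  have hbij : Function.Bijective e := by
    refine ⟨?_, fun g => ?_⟩
    · rintro ⟨k, b, u⟩ ⟨m, b', u'⟩ he
      have e' : (b : GL chevG2.Idx K) * nW chevG2 K (words k) * u =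
          (b' : GL chevG2.Idx K) * nW chevG2 K (words m) * u' := congrArg Subtype.val he
      have hh := hF.bruhat_eqv DataG2.commF b.2 b'.2 (hF.nW_mem _) (hF.nW_mem _)
        (hF.pos_le_borel (rootClosure_mono (fun _ _ h => h.2.1) u.2))
        (hF.pos_le_borel (rootClosure_mono (fun _ _ h => h.2.1) u'.2)) e'
      have h2 := hF.permAct_unique (hF.permAct_mul (hF.permAct_inv (hF.nW_mem _) (hact k)) (hact m))
        (hF.permAct_diagonal hh)
      obtain rfl : k = m := words_injective (inv_mul_eq_one.1 h2)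
      obtain ⟨h3, h4⟩ := hF.bruhat_unique (hact k) b.2 b'.2 u.2 u'.2 e'
      obtain rfl : b = b' := Subtype.ext h3
      obtain rfl : u = u' := Subtype.ext h4
      rfl
    · obtain ⟨b, hb, n, hn, τ, hτ, u, hu, he⟩ := hF.bruhat_exists DataG2.commF g.2
      obtain ⟨l, d, hd, rfl⟩ := hF.exists_nW hn
      have hσl : τ = sW chevG2 l := by
        have := hF.permAct_unique hτ (hF.permAct_mul (hF.permAct_nW l) (hF.permAct_diagonal hd))
        rwa [mul_one] at this
      obtain ⟨k, hk⟩ : ∃ k, σ k = τ := by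
        have := (wFin_eq ▸ mem_wFin_rank.2 ⟨l, hσl⟩ :
          τ ∈ Finset.univ.image fun k => sW chevG2 (words k))
        obtain ⟨k, -, hk⟩ := Finset.mem_image.1 this
        exact ⟨k, hk⟩
      subst hk
      have hdd : nW chevG2 K l * d * (nW chevG2 K (words k))⁻¹ ∈ chevG2.diagonalSubgroup K := by
        refine hF.mem_diagonal_of_permAct (Subgroup.mul_mem _ hn
          (Subgroup.inv_mem _ (hF.nW_mem _))) ?_
        have := hF.permAct_mul hτ (hF.permAct_inv (hF.nW_mem _) (hact k))
        rwa [mul_inv_cancel] at this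
      refine ⟨⟨k, ⟨b * (nW chevG2 K l * d * (nW chevG2 K (words k))⁻¹),
        Subgroup.mul_mem _ hb (hF.diagonal_le_borel hdd)⟩, ⟨u, hu⟩⟩, Subtype.ext ?_⟩
      show b * (nW chevG2 K l * d * (nW chevG2 K (words k))⁻¹) * nW chevG2 K (words k) * u = g
      rw [he, mul_assoc b, inv_mul_cancel_right]
  haveI : ∀ k, Fintype ↥(rootClosure chevG2 K (PosFlip (σ k))) := fun k => Fintype.ofFinite _
  haveI : Fintype ↥(chevG2.borelSubgroup K) := Fintype.ofFinite _
  rw [← Fintype.sum_bijective e hbij (fun p => F (nWg (words p.1))) F fun p => ?_,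
    Fintype.sum_sigma, Finset.mul_sum]
  · refine Finset.sum_congr rfl fun k _ => ?_
    dsimp only
    rw [Finset.sum_const, Finset.card_univ, nsmul_eq_mul, Fintype.card_prod, Nat.cast_mul,
      ← Nat.card_eq_fintype_card, ← Nat.card_eq_fintype_card,
      hF.card_flipClosure DataG2.commF (σ k) (hact k), flipNum_words, Nat.cast_pow,
      Nat.card_eq_fintype_card (α := K), mul_assoc]
  · obtain ⟨k, b, u⟩ := p
    have h1 : e ⟨k, b, u⟩ = ⟨b, hF.borel_le_group b.2⟩ * nWg (words k) *
        ⟨u, hF.pos_le_group (rootClosure_mono (fun _ _ h => h.2.1) u.2)⟩ := rfl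
    rw [h1, hr _ _ (rootClosure_mono (fun _ _ h => h.2.1) u.2), hl _ _ b.2]

end CfsgLib.Known.G2Degree
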