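/-
G₂(q), q ≡ 1 (mod 3): there is no irreducible representation of degree q³ of the excluded shape.
-/
import Mathlib
import Cfsg.Agent.Lib.Known.G2Degree.QCommon
import Cfsg.Agent.Lib.Known.G2Degree.Sum

set_option autoImplicit false
set_option linter.unusedSectionVars false
set_option maxRecDepth 20000

namespace CfsgLib.Known.G2Degree

open Cfsg.Lie CfsgLib.Chev

universe v

variable {K : Type v} [Field K]

/-- Closures are normalised once the generators are moved into them. -/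
theorem conj_mem_closure {G : Type*} [Group G] {S : Set G} {g : G}
    (hg : ∀ s ∈ S, g * s * g⁻¹ ∈ Subgroup.closure S) :
    ∀ h ∈ Subgroup.closure S, g * h * g⁻¹ ∈ Subgroup.closure S := fun h hh =>
  (Subgroup.closure_le (K := (Subgroup.closure S).comap (MulAut.conj g).toMonoidHom)).2
    (fun s hs => hg s hs) hh

/-- In a finite group normalising on one side suffices. -/
theorem norm_inv {G : Type*} [Group G] [Finite G] {H : Subgroup G} {g : G}
    (hg : ∀ h ∈ H, g * h * g⁻¹ ∈ H) : ∀ h ∈ H, g⁻¹ * h * g ∈ H := by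
  intro h hh
  have : ∀ n : ℕ, ∀ x ∈ H, g ^ n * x * (g ^ n)⁻¹ ∈ H := by
    intro n
    induction n with
    | zero => simp
    | succ n ih =>
      intro x hx
      have := hg _ (ih x hx)
      rw [pow_succ', mul_inv_rev]
      simpa [mul_assoc] using this
  have e := this (orderOf g - 1) h hh
  have hgi : g ^ (orderOf g - 1) = g⁻¹ := by
    refine eq_inv_of_mul_eq_one_left ?_
    rw [← pow_succ, Nat.sub_add_cancel (orderOf_pos g), pow_orderOf_eq_one]
  rwa [hgi, inv_inv] at e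

/-- The subgroup of the positive root groups other than that of a. -/
noncomputable def QA : Subgroup ↥(chevG2.group K) :=
  Subgroup.closure {g | ∃ r ∈ [6, 8, 9, 10, 11], ∃ t, g = X r t}

/-- The subgroup of the positive root groups other than that of b. -/
noncomputable def QB : Subgroup ↥(chevG2.group K) :=
  Subgroup.closure {g | ∃ r ∈ [7, 8, 9, 10, 11], ∃ t, g = X r t}

theorem X_mem_QA {r : ℕ} (hr : r ∈ [6, 8, 9, 10, 11]) (t : K) : X r t ∈ QA :=
  Subgroup.subset_closure ⟨r, hr, t, rfl⟩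

theorem X_mem_QB {r : ℕ} (hr : r ∈ [7, 8, 9, 10, 11]) (t : K) : X r t ∈ QB :=
  Subgroup.subset_closure ⟨r, hr, t, rfl⟩

/-- The element normalises QA. -/
def NA (g : ↥(chevG2.group K)) : Prop := ∀ h ∈ QA, g * h * g⁻¹ ∈ QA (K := K)

theorem NA_mul {g g' : ↥(chevG2.group K)} (h : NA g) (h' : NA g') : NA (g * g') := fun x hx => by
  have := h _ (h' x hx)
  simpa [mul_assoc] using this

theorem NA_of_mem {g : ↥(chevG2.group K)} (hg : g ∈ QA (K := K)) : NA g := fun _ hh =>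
  mul_mem (mul_mem hg hh) (inv_mem hg)

theorem NA_seven (t : K) : NA (X 7 t) := conj_mem_closure (by
  rintro _ ⟨r, hr, u, rfl⟩
  have c : ∀ s ∈ [6, 8, 9, 10, 11], ∀ w : K, X s w ∈ QA (K := K) := fun s hs w => X_mem_QA hs w
  simp only [List.mem_cons, List.not_mem_nil, or_false] at hr
  rcases hr with rfl | rfl | rfl | rfl | rfl
  · rw [conj_seven_six]
    exact mul_mem (c 6 (by simp) _) (mul_mem (c 8 (by simp) _) (mul_mem (c 9 (by simp) _)
      (mul_mem (c 10 (by simp) _) (c 11 (by simp) _))))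
  · rw [conj_seven_eight]
    exact mul_mem (c 8 (by simp) _) (mul_mem (c 9 (by simp) _)
      (mul_mem (c 10 (by simp) _) (c 11 (by simp) _)))
  · rw [conj_seven_nine]
    exact mul_mem (c 9 (by simp) _) (c 10 (by simp) _)
  · rw [conj_eq_self (cm 7 10 (by decide +kernel) _ _)]
    exact c 10 (by simp) _
  · rw [conj_eq_self (cm 7 11 (by decide +kernel) _ _)]
    exact c 11 (by simp) _)

theorem NA_X {r : ℕ} (hr : r ∈ [6, 7, 8, 9, 10, 11]) (t : K) : NA (X r t) := by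
  by_cases h7 : r = 7
  · subst h7; exact NA_seven t
  · exact NA_of_mem (X_mem_QA (by simpa [h7] using hr) t)

theorem NA_n7 : NA (nn 0 : ↥(chevG2.group K)) := conj_mem_closure (by
  rintro _ ⟨r, hr, u, rfl⟩
  obtain ⟨e, he⟩ := exists_sign (K := K) 0
  simp only [List.mem_cons, List.not_mem_nil, or_false] at hr
  rcases hr with rfl | rfl | rfl | rfl | rfl <;> rw [(he _ (by norm_num)).2] <;>
    exact X_mem_QA (by simp [refl]) _)

theorem conj_diag {h : ↥(chevG2.group K)}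
    (hh : (h : GL chevG2.Idx K) ∈ chevG2.diagonalSubgroup K) {r : ℕ} (hr : r < 12) (t : K) :
    ∃ w : K, h * X r t * h⁻¹ = X r w := by
  obtain ⟨c, hc⟩ := DataG2.facts.mem_diagonal_iff.1 hh
  refine ⟨((∏ i ∈ Finset.range chevG2.rank, c i ^ chevG2.cartan i r : Kˣ) : K) * t, Subtype.ext ?_⟩
  rw [Subgroup.coe_mul, Subgroup.coe_mul, Subgroup.coe_inv, X_val hr, X_val hr, hc,
    DataG2.facts.hT_conj_xU c (show r < chevG2.nroots from hr) t]

theorem NA_diag {h : ↥(chevG2.group K)}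
    (hh : (h : GL chevG2.Idx K) ∈ chevG2.diagonalSubgroup K) : NA h := conj_mem_closure (by
  rintro _ ⟨r, hr, u, rfl⟩
  obtain ⟨w, hw⟩ := conj_diag hh (r := r) (by simp at hr; omega) u
  rw [hw]
  exact X_mem_QA hr w)

theorem QB_six (t : K) : ∀ h ∈ QB (K := K), X 6 t * h * (X 6 t)⁻¹ ∈ QB (K := K) := conj_mem_closure (by
  rintro _ ⟨r, hr, u, rfl⟩
  have c : ∀ s ∈ [7, 8, 9, 10, 11], ∀ w : K, X s w ∈ QB (K := K) := fun s hs w => X_mem_QB hs w
  simp only [List.mem_cons, List.not_mem_nil, or_false] at hr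
  rcases hr with rfl | rfl | rfl | rfl | rfl
  · rw [conj_six_seven]
    exact mul_mem (c 7 (by simp) _) (mul_mem (c 8 (by simp) _) (mul_mem (c 9 (by simp) _)
      (mul_mem (c 10 (by simp) _) (c 11 (by simp) _))))
  · rw [conj_eq_self (cm 6 8 (by decide +kernel) _ _)]
    exact c 8 (by simp) _
  · rw [conj_eq_self (cm 6 9 (by decide +kernel) _ _)]
    exact c 9 (by simp) _
  · rw [conj_six_ten]
    exact mul_mem (c 10 (by simp) _) (c 11 (by simp) _)
  · rw [conj_eq_self (cm 6 11 (by decide +kernel) _ _)]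
    exact c 11 (by simp) _)

theorem QB_n6 : ∀ h ∈ QB (K := K), nn 1 * h * (nn 1)⁻¹ ∈ QB (K := K) := conj_mem_closure (by
  rintro _ ⟨r, hr, u, rfl⟩
  obtain ⟨e, he⟩ := exists_sign (K := K) 1
  simp only [List.mem_cons, List.not_mem_nil, or_false] at hr
  rcases hr with rfl | rfl | rfl | rfl | rfl <;> rw [(he _ (by norm_num)).2] <;>
    exact X_mem_QB (by simp [refl]) _)

/-- Left translations by the group of a permit the recursion along the reduced words. -/
def Ok : List (Fin 2) → Prop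
  | [] => True
  | i :: l => Ok l ∧ (i = 1 → ∃ s : Fin 12, 6 ≤ (s : ℕ) ∧ pimg l s = 6)

instance decOk : DecidablePred Ok
  | [] => inferInstanceAs (Decidable True)
  | i :: l => @instDecidableAnd _ _ (decOk l) inferInstance

theorem words_ok : ∀ k : Fin 12, Ok (words k) := by decide +kernel

theorem six_of_word {l : List (Fin 2)} {s : Fin 12} (hs : pimg l s = 6) :
    ∃ c : K, ∀ t : K, (nWg l)⁻¹ * X 6 t * nWg l = X (s : ℕ) (c * t) := by
  obtain ⟨c, hc0, hc, -⟩ := DataG2.facts.permAct_nW (D := chevG2) (F := K) l s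
  refine ⟨c⁻¹, fun t => Subtype.ext ?_⟩
  have e := hc (c⁻¹ * t)
  rw [mul_inv_cancel_left₀ hc0] at e
  have hval : ((sW chevG2 l s : Fin chevG2.nroots) : ℕ) = 6 := (sW_val l s).trans hs
  rw [hval] at e
  simp only [Subgroup.coe_mul, Subgroup.coe_inv, X_val (show 6 < 12 by norm_num), X_val s.isLt]
  rw [← e]
  show (nW chevG2 K l)⁻¹ * _ * nW chevG2 K l = _
  group

theorem five_eq : X 5 (-1 : K) = (X 6 1)⁻¹ * nn 1 * (X 6 (1 : K))⁻¹ := by
  have h : (nn 1 : ↥(chevG2.group K)) = X 6 1 * X 5 (-1) * X 6 1 := Subtype.ext (by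
    simp only [Subgroup.coe_mul, nn, X_val (show 6 < 12 by norm_num), X_val (show 5 < 12 by norm_num)]
    show nU chevG2 (chevG2.simple 1) (1 : K) = _
    rw [show chevG2.simple 1 = 6 by decide +kernel, nU,
      show chevG2.neg 6 = 5 by decide +kernel, inv_one])
  rw [h]
  group

variable [Fintype K] [Fintype ↥(chevG2.group K)]
  {V : Type*} [AddCommGroup V] [Module ℂ V] [FiniteDimensional ℂ V]
  (ρ : Representation ℂ ↥(chevG2.group K) V) {ψ : AddChar K ℂ}

theorem schur [ρ.IsIrreducible] (T : Module.End ℂ V) (hT : ∀ g v, T (ρ g v) = ρ g (T v)) :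
    ∃ s : ℂ, ∀ v, T v = s • v := by
  have hnt : Nontrivial V := by
    by_contra h
    rw [not_nontrivial_iff_subsingleton] at h
    refine absurd (Subrepresentation.ext ?_ : (⊥ : Subrepresentation ρ) = ⊤) bot_ne_top
    exact Subsingleton.elim _ _
  obtain ⟨s, hs⟩ := Module.End.exists_eigenvalue T
  refine ⟨s, fun v => ?_⟩
  let S : Subrepresentation ρ := ⟨T.eigenspace s, fun g x hx => by
    rw [Module.End.mem_eigenspace_iff] at hx ⊢
    rw [hT, hx, map_smul]⟩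
  rcases IsSimpleOrder.eq_bot_or_eq_top S with h | h
  · exact absurd (congrArg Subrepresentation.toSubmodule h) hs
  · refine Module.End.mem_eigenspace_iff.1 ?_
    show v ∈ S.toSubmodule
    rw [h]
    exact Submodule.mem_top

/-- The data shared by the lemmas on the degree q³. -/
structure Shape (ψ : AddChar K ℂ) (w₀ : V) : Prop where
  hψ : ψ ≠ 1
  hm : ∀ a, m6 ρ ψ a = 1
  ha : ∀ a, a ≠ 0 → m3 ρ ψ a 0 0 = 0
  fix : ∀ r ∈ [6, 7, 8, 9, 10, 11], ∀ t, ρ (X r t) w₀ = w₀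
  ne : w₀ ≠ 0

variable {w₀ : V} (S : Shape ρ ψ w₀)
include S

theorem w₀_mem : w₀ ∈ Wsp ρ :=
  mem_Wsp ρ (S.fix 9 (by simp)) (S.fix 10 (by simp)) (S.fix 11 (by simp))

theorem line0 {v : V} (hv : v ∈ Wsp ρ) (h6 : ∀ t, ρ (X 6 t) v = v) : ∃ c : ℂ, v = c • w₀ :=
  six_line ρ (S.hm 0) (w₀_mem ρ S) S.ne (fun t => by simpa using S.fix 6 (by simp) t) hv
    fun t => by simpa using h6 t

theorem fix_QA : ∀ h ∈ QA (K := K), ρ h w₀ = w₀ :=
  fixed_closure ρ (by
    rintro _ ⟨r, hr, t, rfl⟩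
    exact S.fix r (by simp at hr ⊢; omega) t)

theorem line_QA {v : V} (hv : ∀ h ∈ QA (K := K), ρ h v = v) : ∃ c : ℂ, v = c • w₀ :=
  line0 ρ S (mem_Wsp ρ (fun t => hv _ (X_mem_QA (by simp) t)) (fun t => hv _ (X_mem_QA (by simp) t))
    fun t => hv _ (X_mem_QA (by simp) t)) fun t => hv _ (X_mem_QA (by simp) t)

theorem exists_phi : ∃ φ : V →ₗ[ℂ] ℂ, φ w₀ = 1 ∧ ∀ v, avg ρ (QA (K := K)) v = φ v • w₀ := by
  obtain ⟨f, hf⟩ := LinearMap.exists_extend
    (LinearMap.id (M := ℂ) (R := ℂ) ∘ₗ (LinearEquiv.toSpanNonzeroSingleton ℂ V w₀ S.ne).symm.toLinearMap)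
  have hf1 : f w₀ = 1 := by
    have := LinearMap.congr_fun hf ⟨w₀, Submodule.mem_span_singleton_self w₀⟩
    simpa [LinearEquiv.coord_self] using this
  refine ⟨f ∘ₗ avg ρ QA, ?_, fun v => ?_⟩
  · rw [LinearMap.comp_apply, avg_apply_fixed ρ (fix_QA ρ S), hf1]
  · obtain ⟨c, hc⟩ := line_QA ρ S (v := avg ρ QA v) fun h hh => rho_avg ρ hh v
    rw [LinearMap.comp_apply, hc, map_smul, hf1, smul_eq_mul, mul_one]

variable {φ : V →ₗ[ℂ] ℂ} (hφ1 : φ w₀ = 1) (hφ : ∀ v, avg ρ (QA (K := K)) v = φ v • w₀)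
include hφ1 hφ

theorem phi_scalar {g : ↥(chevG2.group K)} (hg : NA g) :
    ∃ ε : ℂ, ε ≠ 0 ∧ ρ g w₀ = ε • w₀ ∧ ∀ v, φ (ρ g v) = ε * φ v := by
  obtain ⟨ε, hε⟩ := line_QA ρ S (v := ρ g w₀) fun h hh => by
    have e : g * (g⁻¹ * h * g) * g⁻¹ = h := by group
    have := eigen_conj ρ e (c := 1) (by rw [one_smul, fix_QA ρ S _ (norm_inv hg h hh)])
    rwa [one_smul] at this
  refine ⟨ε, fun h0 => rho_ne ρ g S.ne (by rw [hε, h0, zero_smul]), hε, fun v => ?_⟩
  have h := congrArg φ (avg_conj ρ hg v)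
  rwa [hφ, hφ, map_smul, hφ1, smul_eq_mul, mul_one, map_smul, hε, map_smul, map_smul, hφ1,
    smul_eq_mul, smul_eq_mul, mul_one, mul_comm] at h

theorem phi_U {r : ℕ} (hr : r ∈ [6, 7, 8, 9, 10, 11]) (t : K) (v : V) : φ (ρ (X r t) v) = φ v := by
  obtain ⟨ε, -, h1, h2⟩ := phi_scalar ρ S hφ1 hφ (NA_X hr t)
  have : ε = 1 := smul_left_injective ℂ S.ne (by simpa using h1.symm.trans (S.fix r hr t))
  rw [h2, this, one_mul]

/-- An invariant functional only sees the fixed line of the fixed space. -/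
theorem six_kill {f : V →ₗ[ℂ] ℂ} (hf : ∀ t v, f (ρ (X 6 t) v) = f v) {y : V} (hy : y ∈ Wsp ρ) :
    f y = φ y * f w₀ := by
  classical
  let τ := resW ρ (Wsp ρ)
  let y' : Wsp ρ := pr τ (g6 ρ) 0 ⟨y, hy⟩
  have kill : ∀ (f' : V →ₗ[ℂ] ℂ), (∀ t v, f' (ρ (X 6 t) v) = f' v) → f' y = f' (y' : V) := by
    intro f' hf'
    have e : y = ∑ χ, ((pr τ (g6 ρ) χ ⟨y, hy⟩ : Wsp ρ) : V) := by
      have := congrArg Subtype.val (sum_pr τ (g6 ρ) (g6_add ρ) ⟨y, hy⟩)
      rw [AddSubmonoidClass.coe_finsetSum] at this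
      exact this.symm
    conv_lhs => rw [e, map_sum]
    refine Finset.sum_eq_single (0 : AddChar K ℂ) (fun χ _ hχ => ?_) (by simp)
    obtain ⟨t, ht⟩ := AddChar.ne_zero_iff.1 hχ
    have h6 : ρ (X 6 t) ((pr τ (g6 ρ) χ ⟨y, hy⟩ : Wsp ρ) : V) =
        χ t • ((pr τ (g6 ρ) χ ⟨y, hy⟩ : Wsp ρ) : V) :=
      congrArg Subtype.val (eigen_pr τ (g6 ρ) (g6_add ρ) χ ⟨y, hy⟩ t)
    have := congrArg f' h6
    rw [hf', map_smul, smul_eq_mul, eq_comm, mul_left_eq_self₀] at this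
    exact this.resolve_left ht
  obtain ⟨c, hc⟩ := line0 ρ S y'.2 fun t => by
    have h := congrArg Subtype.val (eigen_pr τ (g6 ρ) (g6_add ρ) (0 : AddChar K ℂ) ⟨y, hy⟩ t)
    simpa [τ, y', g6, resW_apply] using h
  rw [kill f hf, kill φ (phi_U ρ S hφ1 hφ (by simp)), hc, map_smul, map_smul, hφ1, smul_eq_mul,
    smul_eq_mul, mul_one]

/-- The reflection in b acts multiplicatively on suitable matrix coefficients. -/
theorem six_step {z : V} (hz : ∀ t, ρ (X 6 t) z = z) :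
    φ (ρ (nn 1) z) = φ z * φ (ρ (nn 1) w₀) := by
  have hB : ∀ v, φ (avg ρ QB v) = φ v := fun v => by
    have hinv : ∀ h ∈ QB (K := K), ∀ v, φ (ρ h v) = φ v := by
      intro h hh
      induction hh using Subgroup.closure_induction with
      | mem x hx =>
        obtain ⟨r, hr, t, rfl⟩ := hx
        exact phi_U ρ S hφ1 hφ (by simp at hr ⊢; omega) t
      | one => simp
      | mul x y _ _ hx hy => intro v; rw [rho_mul, hx, hy]
      | inv x _ hx => intro v; conv_rhs => rw [← rho_cancel' ρ x v, hx]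
    simp only [avg, LinearMap.smul_apply, LinearMap.sum_apply, map_smul, map_sum,
      hinv _ (SetLike.coe_mem _), Finset.sum_const, Finset.card_univ, ← Nat.cast_smul_eq_nsmul ℂ,
      smul_smul]
    rw [inv_mul_cancel₀ (by simp [Fintype.card_ne_zero]), one_smul]
  have hmem : avg ρ QB z ∈ Wsp ρ :=
    mem_Wsp_of ρ S.hψ S.ha (fun t => rho_avg ρ (X_mem_QB (by simp) t) z)
      fun t => rho_avg ρ (X_mem_QB (by simp) t) z
  obtain ⟨c, hc⟩ := line0 ρ S hmem fun t => by rw [← avg_conj ρ (QB_six t), hz]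
  rw [← hB (ρ (nn 1) z), avg_conj ρ QB_n6, ← hB z, hc, map_smul, map_smul, map_smul, hφ1,
    smul_eq_mul, smul_eq_mul, mul_one]

omit S hφ1 hφ

/-- The bi-invariant function attached to the fixed line. -/
noncomputable def coefF (φ : V →ₗ[ℂ] ℂ) (w₀ : V) (g : ↥(chevG2.group K)) : ℂ :=
  φ (ρ g w₀) * φ (ρ g⁻¹ w₀)

theorem coefF_inv (g : ↥(chevG2.group K)) : coefF ρ φ w₀ g⁻¹ = coefF ρ φ w₀ g := by
  rw [coefF, coefF, inv_inv, mul_comm]

include S hφ1 hφ

theorem coefF_left {g : ↥(chevG2.group K)} (hg : NA g) (x : ↥(chevG2.group K)) :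
    coefF ρ φ w₀ (g * x) = coefF ρ φ w₀ x := by
  obtain ⟨ε, hε, h1, h2⟩ := phi_scalar ρ S hφ1 hφ hg
  have h3 : ρ g⁻¹ w₀ = ε⁻¹ • w₀ := by
    have := congrArg (ρ g⁻¹) h1
    rw [rho_cancel, map_smul] at this
    rw [eq_inv_smul_iff₀ hε]
    exact this.symm
  simp only [coefF, rho_mul, mul_inv_rev, h2, h3, map_smul, smul_eq_mul]
  field_simp

theorem coefF_right {g : ↥(chevG2.group K)} (hg : NA g) (x : ↥(chevG2.group K)) :
    coefF ρ φ w₀ (x * g) = coefF ρ φ w₀ x := by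
  have hg' : NA g⁻¹ := fun h hh => by simpa using norm_inv hg h hh
  rw [← coefF_inv, mul_inv_rev, coefF_left ρ S hφ1 hφ hg', coefF_inv]

theorem coefF_six {g : ↥(chevG2.group K)} {r : ℕ} (hr : r ∈ [6, 7, 8, 9, 10, 11]) {c : K}
    (hg : ∀ t, g⁻¹ * X 6 t * g = X r (c * t)) :
    coefF ρ φ w₀ (nn 1 * g) = coefF ρ φ w₀ (nn 1) * coefF ρ φ w₀ g := by
  have h6 : ∀ t, X 6 t * g = g * X r (c * t) := fun t => by rw [← hg]; group
  have hi : ∀ t, g⁻¹ * X 6 t = X r (c * t) * g⁻¹ := fun t => by rw [← hg]; group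
  have hz : ∀ t, ρ (X 6 t) (ρ g w₀) = ρ g w₀ := fun t => by
    rw [← rho_mul, h6, rho_mul, S.fix r hr]
  have hf : ∀ t v, (φ ∘ₗ ρ g⁻¹) (ρ (X 6 t) v) = (φ ∘ₗ ρ g⁻¹) v := fun t v => by
    simp only [LinearMap.comp_apply]
    rw [← rho_mul, hi, rho_mul, phi_U ρ S hφ1 hφ hr]
  have hy : ρ (nn 1)⁻¹ w₀ ∈ Wsp ρ := inv_mem (n6_mem ρ) w₀ (w₀_mem ρ S)
  have h2 := six_kill ρ S hφ1 hφ hf hy
  simp only [LinearMap.comp_apply] at h2
  simp only [coefF, rho_mul, mul_inv_rev, six_step ρ S hφ1 hφ hz, h2]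
  ring

theorem coefF_word : ∀ l : List (Fin 2), Ok l →
    coefF ρ φ w₀ (nWg l) = coefF ρ φ w₀ (nn 1) ^ l.count 1
  | [], _ => by simp [nWg_nil, coefF, hφ1]
  | i :: l, ⟨hl, hi⟩ => by
    rw [nWg_cons]
    obtain rfl | rfl : i = 0 ∨ i = 1 := by fin_cases i <;> simp
    · rw [coefF_left ρ S hφ1 hφ NA_n7, coefF_word l hl, List.count_cons_of_ne (by decide)]
    · obtain ⟨s, hs, hsl⟩ := hi rfl
      obtain ⟨c, hc⟩ := six_of_word (K := K) hsl
      rw [coefF_six ρ S hφ1 hφ (by have := s.isLt; simp; omega) hc, coefF_word l hl,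
        List.count_cons_self, pow_succ']

/-- The two possible values at the reflection in b. -/
theorem coefF_n6 (hq : 2 ≤ Fintype.card K) :
    coefF ρ φ w₀ (nn 1) = 1 ∨ coefF ρ φ w₀ (nn 1) = (((Fintype.card K : ℂ)) ^ 2)⁻¹ := by
  classical
  let τ := resW ρ (Wsp ρ)
  set x := coefF ρ φ w₀ (nn 1) with hx
  have hy : ρ (nn 1) w₀ ∈ Wsp ρ := n6_mem ρ w₀ (w₀_mem ρ S)
  let P : K → V := fun a =>
    ((pr τ (g6 ρ) (AddChar.mulShift ψ a) ⟨_, hy⟩ : Wsp ρ) : V)
  let A : K → ℂ := fun a => φ (ρ (nn 1)⁻¹ (P a))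
  have hPsum : ∑ a, P a = ρ (nn 1) w₀ := by
    have h := congrArg Subtype.val (sum_pr τ (g6 ρ) (g6_add ρ) ⟨_, hy⟩)
    rw [AddSubmonoidClass.coe_finsetSum] at h
    exact (Fintype.sum_bijective _ (mulShift_bijective S.hψ) P _ fun a => rfl).trans h
  have hP6 : ∀ a t, ρ (X 6 t) (P a) = ψ (a * t) • P a := fun a t =>
    congrArg Subtype.val (eigen_pr τ (g6 ρ) (g6_add ρ) (AddChar.mulShift ψ a) ⟨_, hy⟩ t)
  have hP0 : P 0 = φ (ρ (nn 1) w₀) • w₀ := by
    obtain ⟨c, hc⟩ := line0 ρ S (v := P 0) (Submodule.coe_mem _) fun t => by simp [hP6]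
    have e := congrArg φ hPsum
    rw [map_sum, Finset.sum_eq_single (0 : K) ?_ (by simp), hc, map_smul, hφ1, smul_eq_mul,
      mul_one] at e
    · rw [hc, e]
    · intro a _ ha
      obtain ⟨t, ht⟩ : ∃ t, ψ (a * t) ≠ 1 :=
        not_forall.1 fun h => ha (eq_zero_of_char S.hψ h)
      have h := congrArg φ (hP6 a t)
      rw [phi_U ρ S hφ1 hφ (by simp), map_smul, smul_eq_mul, eq_comm, mul_left_eq_self₀] at h
      exact h.resolve_left ht
  have hA0 : A 0 = x := by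
    simp only [A, hP0, map_smul, smul_eq_mul, hx, coefF]
  have hAu : ∀ u : Kˣ, A u = A 1 := by
    intro u
    have hh : (tor u (u ^ 2) : GL chevG2.Idx K) ∈ chevG2.diagonalSubgroup K :=
      DataG2.facts.mem_diagonal_iff.2 ⟨_, rfl⟩
    set h := tor u (u ^ 2)
    have hh' : (((nn 1)⁻¹ * h * nn 1 : ↥(chevG2.group K)) : GL chevG2.Idx K) ∈
        chevG2.diagonalSubgroup K :=
      DataG2.facts.nS_conj_hT' (1 : Fin 2) hh
    obtain ⟨ε, hε, hε1, hε2⟩ := phi_scalar ρ S hφ1 hφ (NA_diag hh')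
    have hy' : τ ⟨h, tor_mem ρ _ _⟩ (⟨_, hy⟩ : Wsp ρ) = ε • (⟨_, hy⟩ : Wsp ρ) := Subtype.ext (by
      show ρ h (ρ (nn 1) w₀) = ε • ρ (nn 1) w₀
      rw [← map_smul, ← hε1, ← rho_mul, ← rho_mul]
      congr 2
      group)
    have hmv := pr_move τ (g6 ρ) (g6_add ρ) ⟨h, tor_mem ρ _ _⟩ (AddAut.mulLeft u)
      (fun t => Subtype.ext (by
        show tor u (u ^ 2) * X 6 t * (tor u (u ^ 2))⁻¹ = X 6 ((u : K) * t)
        rw [tor_six]
        congr 2
        simp
        field_simp))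
      (χ := AddChar.mulShift ψ u) (χ' := AddChar.mulShift ψ 1)
      (fun t => by rw [AddChar.mulShift_apply, AddChar.mulShift_apply, one_mul]; rfl) ⟨_, hy⟩
    rw [hy', map_smul] at hmv
    have e : ε • P 1 = ρ h (P u) := congrArg Subtype.val hmv
    have e2 := congrArg (fun v => φ (ρ (nn 1)⁻¹ v)) e
    simp only [map_smul, smul_eq_mul] at e2
    rw [show ρ (nn 1)⁻¹ (ρ h (P u)) = ρ ((nn 1)⁻¹ * h * nn 1) (ρ (nn 1)⁻¹ (P u)) by
      rw [← rho_mul, ← rho_mul]; congr 2; group, hε2] at e2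
    exact (mul_left_cancel₀ hε e2).symm
  have hne : ∀ a ∈ (Finset.univ : Finset K).erase 0, A a = A 1 := fun a ha =>
    hAu (Units.mk0 a (Finset.ne_of_mem_erase ha))
  have hsum : x + ((Fintype.card K : ℂ) - 1) * A 1 = 1 := by
    have e : ∑ a, A a = 1 := by
      simp only [A, ← map_sum, hPsum, rho_cancel, hφ1]
    rw [← Finset.add_sum_erase _ _ (Finset.mem_univ (0 : K)), Finset.sum_congr rfl hne,
      Finset.sum_const, Finset.card_erase_of_mem (Finset.mem_univ _), Finset.card_univ,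
      nsmul_eq_mul, Nat.cast_sub (by omega), Nat.cast_one, hA0] at e
    exact e
  have hval : ∀ t : K, t ≠ 0 → φ (ρ ((nn 1)⁻¹ * X 6 t * nn 1) w₀) = x - A 1 := by
    intro t ht
    have hs : ∑ a : K, ψ (a * t) = 0 := by
      have hne1 : AddChar.mulShift ψ t ≠ 0 := fun h => ht (eq_zero_of_char S.hψ fun a => by
        rw [← AddChar.mulShift_apply, h, AddChar.zero_apply])
      rw [← AddChar.sum_eq_zero_iff_ne_zero.2 hne1]
      exact Finset.sum_congr rfl fun a _ => by rw [AddChar.mulShift_apply, mul_comm]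
    rw [rho_mul, rho_mul, ← hPsum, map_sum, map_sum, map_sum]
    simp only [hP6, map_smul, smul_eq_mul]
    rw [← Finset.add_sum_erase _ _ (Finset.mem_univ (0 : K))] at hs ⊢
    rw [zero_mul, AddChar.map_zero_eq_one] at hs ⊢
    rw [show φ (ρ (nn 1)⁻¹ (P 0)) = x from hA0,
      Finset.sum_congr rfl (fun a ha => by rw [show φ (ρ (nn 1)⁻¹ (P a)) = A 1 from hne a ha]),
      ← Finset.sum_mul, eq_neg_of_add_eq_zero_right hs]
    ring
  have hsq : (x - A 1) ^ 2 = x := by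
    have hF : coefF ρ φ w₀ ((nn 1)⁻¹ * X 6 1 * nn 1) = (x - A 1) ^ 2 := by
      rw [coefF, hval 1 one_ne_zero, show ((nn 1)⁻¹ * X 6 (1 : K) * nn 1)⁻¹ =
        (nn 1)⁻¹ * X 6 (-1 : K) * nn 1 by rw [X_neg (by norm_num)]; group,
        hval (-1) (neg_ne_zero.2 one_ne_zero), sq]
    have h5 : coefF ρ φ w₀ (X 5 (-1)) = x := by
      rw [five_eq, ← X_neg (by norm_num), coefF_right ρ S hφ1 hφ (NA_X (by simp) _),
        coefF_left ρ S hφ1 hφ (NA_X (by simp) _)]
    obtain ⟨e, he⟩ := exists_sign (K := K) 1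
    have hee := (he 5 (by norm_num)).2
    rw [← hF]
    rcases (he 5 (by norm_num)).1 with h | h
    · have := hee 1
      rw [h, one_mul, show refl (1 : Fin 2) 5 = 6 from rfl] at this
      rw [← this, show (nn 1)⁻¹ * (nn 1 * X 5 (1 : K) * (nn 1)⁻¹) * nn 1 = X 5 1 by group,
        ← coefF_inv, ← X_neg (by norm_num), h5]
    · have := hee (-1)
      rw [h, neg_one_mul, neg_neg, show refl (1 : Fin 2) 5 = 6 from rfl] at this
      rw [← this, show (nn 1)⁻¹ * (nn 1 * X 5 (-1 : K) * (nn 1)⁻¹) * nn 1 = X 5 (-1) by group, h5]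
  have hq0 : (Fintype.card K : ℂ) ≠ 0 := by simp [Fintype.card_ne_zero]
  have hroot : (x - 1) * ((Fintype.card K : ℂ) ^ 2 * x - 1) = 0 := by
    linear_combination (((Fintype.card K : ℂ) - 1) ^ 2) * hsq +
      ((Fintype.card K : ℂ) * x - 1 + ((Fintype.card K : ℂ) - 1) * (x - A 1)) * hsum
  rcases mul_eq_zero.1 hroot with h | h
  · exact Or.inl (sub_eq_zero.1 h)
  · exact Or.inr (eq_inv_of_mul_eq_one_right (sub_eq_zero.1 h))

theorem card_eq_sum [ρ.IsIrreducible] :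
    (Fintype.card ↥(chevG2.group K) : ℂ) = (∑ g, coefF ρ φ w₀ g) * Module.finrank ℂ V := by
  let T : Module.End ℂ V := ∑ g, (φ ∘ₗ ρ g⁻¹).smulRight (ρ g w₀)
  have hT : ∀ v, T v = ∑ g, φ (ρ g⁻¹ v) • ρ g w₀ := fun v => by simp [T, LinearMap.sum_apply]
  obtain ⟨s, hs⟩ := schur ρ T fun h v => by
    rw [hT, hT, map_sum]
    refine Fintype.sum_equiv (Equiv.mulLeft h⁻¹) _ _ fun g => ?_
    simp only [Equiv.coe_mulLeft, map_smul, mul_inv_rev, inv_inv, ← rho_mul, mul_inv_cancel_left]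
  have hsF : s = ∑ g, coefF ρ φ w₀ g := by
    have := congrArg φ (hs w₀)
    rw [hT, map_smul, hφ1, smul_eq_mul, mul_one, map_sum] at this
    rw [← this]
    exact Finset.sum_congr rfl fun g _ => by rw [map_smul, smul_eq_mul, coefF, mul_comm]
  have htr : LinearMap.trace ℂ V T = Fintype.card ↥(chevG2.group K) := by
    simp only [T, map_sum, LinearMap.trace_smulRight, LinearMap.comp_apply, rho_cancel, hφ1,
      Finset.sum_const, Finset.card_univ, nsmul_eq_mul, mul_one]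
  have hTs : T = s • (1 : Module.End ℂ V) := LinearMap.ext fun v => by simp [hs]
  rw [hTs, map_smul, LinearMap.trace_one, smul_eq_mul] at htr
  rw [← htr, hsF]

theorem finrank_ne [ρ.IsIrreducible] (hq : 2 ≤ Fintype.card K) :
    Module.finrank ℂ V ≠ Fintype.card K ^ 3 := by
  intro hk
  have hG := card_eq_sum ρ S hφ1 hφ
  have hl : ∀ b g : ↥(chevG2.group K), (b : GL chevG2.Idx K) ∈ chevG2.borelSubgroup K →
      coefF ρ φ w₀ (b * g) = coefF ρ φ w₀ g := by
    intro b g hb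
    obtain ⟨u, hu, h, hh, e⟩ := DataG2.facts.mem_borel_iff.1 hb
    have hNu : ∀ x ∈ rootClosure chevG2 K (chevG2.nroots / 2 ≤ ·), ∀ hx : x ∈ chevG2.group K,
        ∀ g, coefF ρ φ w₀ (⟨x, hx⟩ * g) = coefF ρ φ w₀ g := by
      intro x hx
      induction hx using Subgroup.closure_induction with
      | mem x hx =>
        obtain ⟨r, t, hr, hr6, rfl⟩ := hx
        intro hxG g
        rw [show (⟨_, hxG⟩ : ↥(chevG2.group K)) = X r t from Subtype.ext (X_val hr t).symm]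
        refine coefF_left ρ S hφ1 hφ (NA_X ?_ t) g
        have h1 : r < 12 := hr
        have h2 : 6 ≤ r := hr6
        simp
        omega
      | one => intro h g; rw [show (⟨1, h⟩ : ↥(chevG2.group K)) = 1 from rfl, one_mul]
      | mul x y hx hy ihx ihy =>
        intro hxy g
        have hxG := DataG2.facts.pos_le_group hx
        have hyG := DataG2.facts.pos_le_group hy
        rw [show (⟨x * y, hxy⟩ : ↥(chevG2.group K)) = ⟨x, hxG⟩ * ⟨y, hyG⟩ from rfl, mul_assoc,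
          ihx hxG, ihy hyG]
      | inv x hx ih =>
        intro hxi g
        have hxG := DataG2.facts.pos_le_group hx
        have := ih hxG ((⟨x, hxG⟩ : ↥(chevG2.group K))⁻¹ * g)
        rw [mul_inv_cancel_left] at this
        exact this.symm
    have huG := DataG2.facts.pos_le_group hu
    have hhG := DataG2.facts.diagonal_le_group hh
    rw [show b = ⟨u, huG⟩ * ⟨h, hhG⟩ from Subtype.ext e, mul_assoc, hNu u hu huG,
      coefF_left ρ S hφ1 hφ (NA_diag hh)]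
  have hr : ∀ u g : ↥(chevG2.group K),
      (u : GL chevG2.Idx K) ∈ rootClosure chevG2 K (chevG2.nroots / 2 ≤ ·) →
      coefF ρ φ w₀ (g * u) = coefF ρ φ w₀ g := fun u g hu => by
    rw [← coefF_inv, mul_inv_rev, hl u⁻¹ g⁻¹ (by
      rw [Subgroup.coe_inv]; exact inv_mem (DataG2.facts.pos_le_borel hu)), coefF_inv]
  have hone := sum_group (K := K) (fun _ => 1) (fun _ _ _ => rfl) (fun _ _ _ => rfl)
  rw [Finset.sum_const, Finset.card_univ, nsmul_eq_mul, mul_one] at hone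
  rw [sum_group _ hl hr, hone, hk, mul_assoc] at hG
  have hB : (Nat.card ↥(chevG2.borelSubgroup K) : ℂ) ≠ 0 := Nat.cast_ne_zero.2 Nat.card_pos.ne'
  have h := mul_left_cancel₀ hB hG
  have hw : ∀ k, coefF ρ φ w₀ (nWg (words k)) = coefF ρ φ w₀ (nn 1) ^ (words k).count 1 := fun k =>
    coefF_word ρ S hφ1 hφ _ (words_ok k)
  simp only [hw] at h
  set x := coefF ρ φ w₀ (nn 1) with hx
  push_cast at h
  simp only [Fin.sum_univ_succ, Fin.sum_univ_zero, words, Matrix.cons_val_zero, Matrix.cons_val_succ,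
    List.length_cons, List.length_nil, List.count_cons, List.count_nil] at h
  norm_num at h
  have hq0 : (Fintype.card K : ℂ) ≠ 0 := by simp [Fintype.card_ne_zero]
  set q : ℂ := (Fintype.card K : ℂ) with hqdef
  have hq2 : q ^ 2 ≠ 1 := by
    rw [hqdef]
    norm_cast
    nlinarith
  have hq1 : q + 1 ≠ 0 := by
    rw [hqdef]
    norm_cast
  rcases coefF_n6 ρ S hφ1 hφ hq with h1 | h1 <;> rw [← hx] at h1
  · rw [h1] at h
    refine hq2 ?_
    have h3 : (1 + q) * (1 + q + q ^ 2 + q ^ 3 + q ^ 4 + q ^ 5) * (q ^ 3 - 1) = 0 := by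
      linear_combination -h
    rcases mul_eq_zero.1 h3 with h4 | h4
    · exfalso
      rcases mul_eq_zero.1 h4 with h5 | h5
      · exact hq1 (by linear_combination h5)
      · rw [hqdef] at h5
        norm_cast at h5
        nlinarith
    · exfalso
      rw [sub_eq_zero, hqdef] at h4
      norm_cast at h4
      nlinarith [Nat.pow_le_pow_left hq 3]
  · have hxq : q ^ 2 * x = 1 := by rw [h1, mul_inv_cancel₀ (pow_ne_zero _ hq0)]
    have h3 : (q + 1) ^ 2 * (q ^ 2 - 1) ^ 2 = 0 := by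
      linear_combination h + (1 + q) * q ^ 2 *
        ((1 + q) * (q ^ 2 * x + 2) + (q ^ 2 * x) ^ 2 + q ^ 2 * x + 1) * hxq
    exact hq2 (sub_eq_zero.1 (pow_eq_zero_iff two_ne_zero |>.1
      ((mul_eq_zero.1 h3).resolve_left (pow_ne_zero _ hq1))))

omit S hφ1 hφ

/-- There is no irreducible representation of degree q³. -/
theorem not_cube [ρ.IsIrreducible] (hψ : ψ ≠ 1) (h3 : (3 : K) ≠ 0) (hq : 5 ≤ Fintype.card K)
    (h1 : m3 ρ ψ 0 0 1 = 1) (ha : ∀ a, a ≠ 0 → m3 ρ ψ a 0 0 = 0)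
    (hW : m3 ρ ψ 0 0 0 = Fintype.card K) : Module.finrank ℂ V ≠ Fintype.card K ^ 3 := by
  obtain ⟨hm, hm0⟩ := m6_eq ρ hψ h3 hq h1 hW.le
  have hall : ∀ a, m6 ρ ψ a = 1 := fun a => by
    rcases eq_or_ne a 0 with rfl | h
    · omega
    · exact hm a h
  obtain ⟨w, hw0, hw⟩ := exists_vec (resW ρ (Wsp ρ)) (g6 ρ) (g6_add ρ)
    (χ := AddChar.mulShift ψ 0) (by rw [show mu _ _ _ = 1 from hall 0]; norm_num)
  have h8 := fun t => eight_trivial ρ hψ hW.le (by omega) w.2 t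
  have h7 := fun t => seven_trivial ρ hψ hW.le (by omega) w.2 t
  have h6 : ∀ t, ρ (X 6 t) (w : V) = w := fun t => by
    simpa [g6, resW_apply, AddChar.mulShift_apply] using congrArg Subtype.val (hw t)
  have S : Shape ρ ψ (w : V) := ⟨hψ, hall, ha, fun r hr t => by
    simp only [List.mem_cons, List.not_mem_nil, or_false] at hr
    rcases hr with rfl | rfl | rfl | rfl | rfl | rfl
    exacts [h6 t, h7 t, h8 t, Wsp_nine ρ w.2 t, Wsp_ten ρ w.2 t, Wsp_eleven ρ w.2 t],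
    fun h => hw0 (Subtype.ext h)⟩
  obtain ⟨φ, hφ1, hφ⟩ := exists_phi ρ S
  exact finrank_ne ρ S hφ1 hφ (by omega)

end CfsgLib.Known.G2Degree
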