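/-
Representations of G₂(q) in characteristic 3: the multiplicities on the abelian subgroup of a+b, 2a+b, 3a+b, 3a+2b.
-/
import Mathlib
import Cfsg.Agent.Lib.Known.G2Degree.Generic

set_option autoImplicit false
set_option linter.unusedSectionVars false
set_option maxRecDepth 20000

namespace CfsgLib.Known.G2Degree

open Cfsg.Lie CfsgLib.Chev

universe v

variable {K : Type v} [Field K]

/-- The root subgroup of a+b, 2a+b, 3a+b, 3a+2b. -/
noncomputable def f4 (p : K × K × K × K) : ↥(chevG2.group K) := X 8 p.1 * f3 p.2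

theorem three_nine_eight (h3 : (3 : K) = 0) (t u : K) : Commute (X 8 t) (X 9 u) := by
  have h := conj_eight_nine t u
  rw [h3, zero_mul, zero_mul, X_zero (by norm_num), mul_one, mul_inv_eq_iff_eq_mul] at h
  exact h

theorem three_seven_nine (h3 : (3 : K) = 0) (t u : K) : Commute (X 7 t) (X 9 u) := by
  have h := conj_seven_nine t u
  rw [h3, zero_mul, zero_mul, X_zero (by norm_num), mul_one, mul_inv_eq_iff_eq_mul] at h
  exact h

theorem three_seven_eight (h3 : (3 : K) = 0) (t u : K) :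
    X 7 t * X 8 u * (X 7 t)⁻¹ = X 8 u * X 9 (t * u) := by
  rw [conj_seven_eight, show (-3 : K) * t ^ 2 * u = 0 by linear_combination (-(t ^ 2 * u)) * h3,
    show (3 : K) * t * u ^ 2 = 0 by rw [h3]; ring, X_zero (by norm_num), X_zero (by norm_num),
    mul_one, mul_one, show (-2 : K) * t * u = t * u by linear_combination (-(t * u)) * h3]

theorem f4_add (h3 : (3 : K) = 0) (p p' : K × K × K × K) : f4 (p + p') = f4 p * f4 p' := by
  have hc : Commute (X 8 p'.1) (f3 p.2) :=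
    ((three_nine_eight h3 _ _).mul_right (cm 8 10 (by decide +kernel) _ _)).mul_right
      (cm 8 11 (by decide +kernel) _ _)
  rw [f4, f4, f4, Prod.fst_add, Prod.snd_add, X_add (by norm_num), f3_add, mul_assoc, mul_assoc]
  congr 1
  rw [← mul_assoc, hc.eq, mul_assoc]

theorem f4_eight (t : K) : f4 (t, 0, 0, 0) = X 8 t := by simp [f4, f3, X_zero]

theorem f4_zero (p : K × K × K) : f4 (0, p) = f3 p := by simp [f4, X_zero]

theorem conj_mul2 {G : Type*} [Group G] (g a b : G) :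
    g * (a * b) * g⁻¹ = (g * a * g⁻¹) * (g * b * g⁻¹) := by group

/-- The shear induced by the root group of a. -/
def s7 (s : K) : K × K × K × K ≃+ K × K × K × K where
  toFun p := (p.1, p.2.1 + s * p.1, p.2.2.1, p.2.2.2)
  invFun p := (p.1, p.2.1 - s * p.1, p.2.2.1, p.2.2.2)
  left_inv p := Prod.ext rfl (Prod.ext (by dsimp; ring) rfl)
  right_inv p := Prod.ext rfl (Prod.ext (by dsimp; ring) rfl)
  map_add' p p' := Prod.ext rfl (Prod.ext (by dsimp; ring) rfl)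

/-- The shear induced by the root group of b. -/
def s6 (s : K) : K × K × K × K ≃+ K × K × K × K where
  toFun p := (p.1, p.2.1, p.2.2.1, p.2.2.2 + s * p.2.2.1)
  invFun p := (p.1, p.2.1, p.2.2.1, p.2.2.2 - s * p.2.2.1)
  left_inv p := Prod.ext rfl (Prod.ext rfl (Prod.ext rfl (by dsimp; ring)))
  right_inv p := Prod.ext rfl (Prod.ext rfl (Prod.ext rfl (by dsimp; ring)))
  map_add' p p' := Prod.ext rfl (Prod.ext rfl (Prod.ext rfl (by dsimp; ring)))

/-- A diagonal scaling of quadruples. -/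
def sc4 (u w z y : Kˣ) : K × K × K × K ≃+ K × K × K × K where
  toFun p := ((u : K) * p.1, (w : K) * p.2.1, (z : K) * p.2.2.1, (y : K) * p.2.2.2)
  invFun p := (((u⁻¹ : Kˣ) : K) * p.1, ((w⁻¹ : Kˣ) : K) * p.2.1, ((z⁻¹ : Kˣ) : K) * p.2.2.1,
    ((y⁻¹ : Kˣ) : K) * p.2.2.2)
  left_inv p := by simp
  right_inv p := by simp
  map_add' p p' := Prod.ext (mul_add _ _ _) (Prod.ext (mul_add _ _ _)
    (Prod.ext (mul_add _ _ _) (mul_add _ _ _)))

/-- A scaling exchanging the first two coordinates. -/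
def sw12 (u w z : Kˣ) : K × K × K ≃+ K × K × K where
  toFun p := ((w : K) * p.2.1, (u : K) * p.1, (z : K) * p.2.2)
  invFun p := (((u⁻¹ : Kˣ) : K) * p.2.1, ((w⁻¹ : Kˣ) : K) * p.1, ((z⁻¹ : Kˣ) : K) * p.2.2)
  left_inv p := by simp
  right_inv p := by simp
  map_add' p p' := Prod.ext (mul_add _ _ _) (Prod.ext (mul_add _ _ _) (mul_add _ _ _))

theorem seven_f4 (h3 : (3 : K) = 0) (s : K) (p : K × K × K × K) :
    X 7 s * f4 p * (X 7 s)⁻¹ = f4 (s7 s p) := by
  rw [f4, f3, conj_mul2, conj_mul3, three_seven_eight h3, conj_eq_self (three_seven_nine h3 _ _),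
    conj_eq_self (cm 7 10 (by decide +kernel) _ _), conj_eq_self (cm 7 11 (by decide +kernel) _ _)]
  simp only [f4, f3, s7, AddEquiv.coe_mk, Equiv.coe_fn_mk, add_comm p.2.1,
    X_add (show 9 < 12 by norm_num), mul_assoc]

theorem six_f4 (s : K) (p : K × K × K × K) : X 6 s * f4 p * (X 6 s)⁻¹ = f4 (s6 s p) := by
  rw [f4, conj_mul2, conj_eq_self (cm 6 8 (by decide +kernel) _ _), six_f3]
  simp [f4, f3, sh3, s6]

theorem tor_f4 (c d : Kˣ) (p : K × K × K × K) :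
    tor c d * f4 p * (tor c d)⁻¹ = f4 (sc4 (d / c) c (c ^ 3 / d) d p) := by
  rw [f4, conj_mul2, tor_eight, tor_f3]
  simp [f4, f3, sc3, sc4]

/-- The embedding of the root groups of a+b, 2a+b, 3a+2b. -/
def j891 : K × K × K →+ K × K × K × K where
  toFun p := (p.1, p.2.1, 0, p.2.2)
  map_zero' := rfl
  map_add' p p' := by simp

theorem n7_f891 (h3 : (3 : K) = 0) : ∃ u w z : Kˣ, ∀ p : K × K × K,
    nn 0 * f4 (j891 p) * (nn 0)⁻¹ = f4 (j891 (sw12 u w z p)) := by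
  obtain ⟨e, he⟩ := exists_sign (K := K) 0
  have hne : ∀ s < 12, e s ≠ 0 := fun s hs => by rcases (he s hs).1 with h | h <;> simp [h]
  refine ⟨Units.mk0 _ (hne 8 (by norm_num)), Units.mk0 _ (hne 9 (by norm_num)),
    Units.mk0 _ (hne 11 (by norm_num)), fun p => ?_⟩
  simp only [f4, f3, j891, sw12, AddMonoidHom.coe_mk, ZeroHom.coe_mk, AddEquiv.coe_mk,
    Equiv.coe_fn_mk, X_zero (show 10 < 12 by norm_num), mul_one, Units.val_mk0]
  rw [conj_mul2, conj_mul2, (he 8 (by norm_num)).2, (he 9 (by norm_num)).2, (he 11 (by norm_num)).2]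
  simp only [refl, Fin.val_zero, ↓reduceIte, List.getD_cons_succ, List.getD_cons_zero]
  rw [← mul_assoc, ← mul_assoc, (three_nine_eight h3 _ _).eq]

variable [Fintype K] {V : Type*} [AddCommGroup V] [Module ℂ V] [FiniteDimensional ℂ V]
  (ρ : Representation ℂ ↥(chevG2.group K) V) (ψ : AddChar K ℂ)

/-- The multiplicity at a coefficient quadruple. -/
noncomputable def m4 (a b c d : K) : ℕ := mu ρ f4 (ch4 ψ (a, b, c, d))

variable (h3 : (3 : K) = 0)
include h3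

theorem m4_seven (s a b c d : K) : m4 ρ ψ (a + s * b) b c d = m4 ρ ψ a b c d :=
  mu_move ρ f4 (f4_add h3) (X 7 s) (s7 s) (seven_f4 h3 s) fun p => by
    simp only [ch4_apply]; congr 1; simp [s7]; ring

theorem m4_six (s a b c d : K) : m4 ρ ψ a b (c + s * d) d = m4 ρ ψ a b c d :=
  mu_move ρ f4 (f4_add h3) (X 6 s) (s6 s) (six_f4 s) fun p => by
    simp only [ch4_apply]; congr 1; simp [s6]; ring

theorem m4_tor (u w : Kˣ) (a b c d : K) :
    m4 ρ ψ (a * ((w : K) / u)) (b * u) (c * ((u : K) ^ 3 / w)) (d * w) = m4 ρ ψ a b c d :=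
  mu_move ρ f4 (f4_add h3) (tor u w) _ (tor_f4 u w) fun p => by
    simp only [ch4_apply]; congr 1; simp [sc4]; ring

/-- Where both of the last-but-two and last coefficients are non-zero. -/
theorem m4_top {a b c d : K} (hb : b ≠ 0) (hd : d ≠ 0) : m4 ρ ψ a b c d = m4 ρ ψ 0 1 0 1 := by
  have e1 := m4_seven ρ ψ h3 (a / b) 0 b c d
  rw [zero_add, div_mul_cancel₀ _ hb] at e1
  have e2 := m4_six ρ ψ h3 (c / d) 0 b 0 d
  rw [zero_add, div_mul_cancel₀ _ hd] at e2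
  have e3 := m4_tor ρ ψ h3 (Units.mk0 b hb) (Units.mk0 d hd) 0 1 0 1
  simp only [zero_mul, one_mul, Units.val_mk0] at e3
  rw [e1, e2, e3]

theorem m4_mid1 {a c d : K} (ha : a ≠ 0) (hd : d ≠ 0) : m4 ρ ψ a 0 c d = m4 ρ ψ 1 0 0 1 := by
  have e2 := m4_six ρ ψ h3 (c / d) a 0 0 d
  rw [zero_add, div_mul_cancel₀ _ hd] at e2
  have e3 := m4_tor ρ ψ h3 (Units.mk0 (d / a) (div_ne_zero hd ha)) (Units.mk0 d hd) 1 0 0 1
  simp only [zero_mul, one_mul, Units.val_mk0, div_div_cancel₀ hd] at e3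
  rw [e2, e3]

theorem m4_mid2 {a b c : K} (hb : b ≠ 0) (hc : c ≠ 0) : m4 ρ ψ a b c 0 = m4 ρ ψ 0 1 1 0 := by
  have e1 := m4_seven ρ ψ h3 (a / b) 0 b c 0
  rw [zero_add, div_mul_cancel₀ _ hb] at e1
  have e3 := m4_tor ρ ψ h3 (Units.mk0 b hb) (Units.mk0 (b ^ 3 / c) (div_ne_zero (pow_ne_zero _ hb) hc))
    0 1 1 0
  simp only [zero_mul, one_mul, Units.val_mk0] at e3
  rw [div_div_cancel₀ (pow_ne_zero 3 hb)] at e3
  rw [e1, e3]

variable {ψ} (hψ : ψ ≠ 1)
include hψ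

theorem marg891 (a b d : K) :
    mu ρ (fun p => f4 (j891 p)) (ch3 ψ (a, b, d)) = ∑ c, m4 ρ ψ a b c d := by
  classical
  rw [mu_marginal ρ f4 (f4_add h3) j891]
  symm
  refine Finset.sum_bij (fun c _ => ch4 ψ (a, b, c, d)) (fun c _ => ?_) (fun c _ c' _ h => ?_)
    (fun χ hχ => ?_) fun c _ => rfl
  · refine Finset.mem_filter.2 ⟨Finset.mem_univ _, DFunLike.ext _ _ fun p => ?_⟩
    simp [AddChar.compAddMonoidHom_apply, ch3_apply, ch4_apply, j891]
  · simpa using (ch4_bijective hψ).1 h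
  · obtain ⟨⟨a', b', c', d'⟩, rfl⟩ := (ch4_bijective hψ).2 χ
    refine ⟨c', Finset.mem_univ _, ?_⟩
    have h := (Finset.mem_filter.1 hχ).2
    have hh : ch3 ψ (a', b', d') = ch3 ψ (a, b, d) := by
      rw [← h]
      exact DFunLike.ext _ _ fun p => by
        simp [AddChar.compAddMonoidHom_apply, ch3_apply, ch4_apply, j891]
    obtain ⟨rfl, rfl, rfl⟩ : a' = a ∧ b' = b ∧ d' = d := by simpa using (ch3_bijective hψ).1 hh
    rfl

theorem marg3 (b c d : K) : m3 ρ ψ b c d = ∑ a, m4 ρ ψ a b c d := by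
  classical
  have e : (fun p : K × K × K => f4 ((AddMonoidHom.inr K (K × K × K)) p)) = f3 :=
    funext fun p => f4_zero p
  rw [m3, ← e, mu_marginal ρ f4 (f4_add h3) (AddMonoidHom.inr K (K × K × K))]
  symm
  refine Finset.sum_bij (fun a _ => ch4 ψ (a, b, c, d)) (fun c _ => ?_) (fun a _ a' _ h => ?_)
    (fun χ hχ => ?_) fun c _ => rfl
  · refine Finset.mem_filter.2 ⟨Finset.mem_univ _, DFunLike.ext _ _ fun p => ?_⟩
    simp [AddChar.compAddMonoidHom_apply, ch3_apply, ch4_apply]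
  · simpa using (ch4_bijective hψ).1 h
  · obtain ⟨⟨a', b', c', d'⟩, rfl⟩ := (ch4_bijective hψ).2 χ
    refine ⟨a', Finset.mem_univ _, ?_⟩
    have h := (Finset.mem_filter.1 hχ).2
    have hh : ch3 ψ (b', c', d') = ch3 ψ (b, c, d) := by
      rw [← h]
      exact DFunLike.ext _ _ fun p => by
        simp [AddChar.compAddMonoidHom_apply, ch3_apply, ch4_apply]
    obtain ⟨rfl, rfl, rfl⟩ : b' = b ∧ c' = c ∧ d' = d := by simpa using (ch3_bijective hψ).1 hh
    rfl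

/-- The exchange of a+b and 2a+b. -/
theorem n7_marg : ∃ u w z : Kˣ, ∀ a b d : K,
    ∑ c, m4 ρ ψ (b * u) (a * w) c (d * z) = ∑ c, m4 ρ ψ a b c d := by
  obtain ⟨u, w, z, hn⟩ := n7_f891 h3
  refine ⟨u, w, z, fun a b d => ?_⟩
  rw [← marg891 ρ h3 hψ, ← marg891 ρ h3 hψ]
  refine mu_move ρ (fun p => f4 (j891 p)) (fun p p' => by rw [map_add, f4_add h3]) (nn 0) _ hn
    fun p => ?_
  simp only [ch3_apply]; congr 1; simp [sw12]; ring

/-- The exchange of 3a+b and 3a+2b. -/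
theorem n6_marg : ∃ u w z : Kˣ, ∀ b c d : K,
    ∑ a, m4 ρ ψ a (b * u) (d * w) (c * z) = ∑ a, m4 ρ ψ a b c d := by
  obtain ⟨u, w, z, hn⟩ := n6_f3 (K := K)
  refine ⟨u, w, z, fun b c d => ?_⟩
  rw [← marg3 ρ h3 hψ, ← marg3 ρ h3 hψ]
  refine mu_move ρ f3 f3_add (nn 1) _ hn fun p => ?_
  simp only [ch3_apply]; congr 1; simp [sw3]; ring

/-- The generic multiplicity. -/
theorem m4_generic {a b c d : K} (h : (d ≠ 0 ∧ ¬(a = 0 ∧ b = 0)) ∨ (b ≠ 0 ∧ ¬(c = 0 ∧ d = 0))) :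
    m4 ρ ψ a b c d = m4 ρ ψ 0 1 0 1 := by
  have hq : Fintype.card K ≠ 0 := Fintype.card_ne_zero
  have r1 : m4 ρ ψ 1 0 0 1 = m4 ρ ψ 0 1 0 1 := by
    obtain ⟨u, w, z, hn⟩ := n7_marg ρ h3 hψ
    have e := hn 1 0 1
    rw [Finset.sum_congr rfl (fun c _ => m4_top ρ ψ h3 (b := 1 * (w : K)) (by simp) (by simp)),
      Finset.sum_congr rfl (fun c _ => m4_mid1 ρ ψ h3 (a := (1 : K)) one_ne_zero one_ne_zero)] at e
    simpa [Finset.sum_const, hq] using e.symm
  have r2 : m4 ρ ψ 0 1 1 0 = m4 ρ ψ 0 1 0 1 := by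
    obtain ⟨u, w, z, hn⟩ := n6_marg ρ h3 hψ
    have e := hn 1 1 0
    rw [Finset.sum_congr rfl (fun c _ => m4_top ρ ψ h3 (b := 1 * (u : K)) (by simp) (by simp)),
      Finset.sum_congr rfl (fun c _ => m4_mid2 ρ ψ h3 (b := (1 : K)) one_ne_zero one_ne_zero)] at e
    simpa [Finset.sum_const, hq] using e.symm
  by_cases hb : b = 0
  · rcases h with ⟨hd, ha⟩ | h
    · subst hb
      rw [m4_mid1 ρ ψ h3 (fun h0 => ha ⟨h0, rfl⟩) hd, r1]
    · exact absurd hb h.1
  · by_cases hd : d = 0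
    · rcases h with h | ⟨-, hc⟩
      · exact absurd hd h.1
      · subst hd
        rw [m4_mid2 ρ ψ h3 hb (fun h0 => hc ⟨h0, rfl⟩), r2]
    · exact m4_top ρ ψ h3 hb hd

/-- Vectors whose characters at 3a+b and 3a+2b are both non-trivial are fixed by the other two root
groups when the generic multiplicity vanishes. -/
theorem small_fixed (h0 : m4 ρ ψ 0 1 0 1 = 0) {v : V} {d : K} (hd : d ≠ 0)
    (h11 : ∀ t, ρ (X 11 t) v = ψ (d * t) • v) (t : K) :
    ρ (X 8 t) v = v := by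
  rw [← f4_eight]
  refine fixed_of_pr ρ f4 (f4_add h3) _ v fun χ hχ => ?_
  obtain ⟨⟨a', b', c', d'⟩, rfl⟩ := (ch4_bijective hψ).2 χ
  by_cases hd' : d' = d
  · subst hd'
    refine pr_eq_zero ρ f4 (f4_add h3)
      ((m4_generic ρ h3 hψ (Or.inl ⟨hd, fun h => hχ ?_⟩)).trans h0) v
    simp [ch4_apply, h.1]
  · obtain ⟨x, hx⟩ : ∃ x, ψ (d' * x) ≠ ψ (d * x) := not_forall.1 fun h => hd' (eq_of_char hψ h)
    have e := pr_act ρ f4 (f4_add h3) (ch4 ψ (a', b', c', d')) (0, 0, 0, x) v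
    rw [f4_zero, f3_eleven, h11, map_smul] at e
    by_contra hne
    exact hx (by simpa [ch4_apply] using (smul_left_injective ℂ hne e).symm)

/-- The generic multiplicity does not vanish. -/
theorem m4_pos (hq : 9 ≤ Fintype.card K) (hinj : ∀ g, (∀ v, ρ g v = v) → g = 1) :
    m4 ρ ψ 0 1 0 1 ≠ 0 := by
  classical
  intro h0
  obtain ⟨⟨a, b, c, d⟩, hd, hne⟩ : ∃ p : K × K × K × K, p.2.2.2 ≠ 0 ∧
      m4 ρ ψ p.1 p.2.1 p.2.2.1 p.2.2.2 ≠ 0 := by
    by_contra! hall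
    have e := hinj (X 11 1) fun v => by
      rw [← f3_eleven, ← f4_zero]
      refine fix_of_mu_at ρ f4 (f4_add h3) _ (fun χ hχ => ?_) v
      obtain ⟨⟨a, b, c, d⟩, rfl⟩ := (ch4_bijective hψ).2 χ
      exact hall (a, b, c, d) fun hd => hχ (by simp [ch4_apply, show d = 0 from hd])
    exact one_ne_zero (X_eq_one (by norm_num) e)
  dsimp only at hd hne
  obtain ⟨rfl, rfl⟩ : a = 0 ∧ b = 0 := by
    by_contra h
    exact hne ((m4_generic ρ h3 hψ (Or.inl ⟨hd, h⟩)).trans h0)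
  have hne1 : m4 ρ ψ 0 0 d d ≠ 0 := by
    have e := m4_six ρ ψ h3 ((d - c) / d) 0 0 c d
    rw [div_mul_cancel₀ _ hd, add_sub_cancel] at e
    rwa [e]
  obtain ⟨v, hv0, hv⟩ := exists_vec ρ f4 (f4_add h3) (χ := ch4 ψ (0, 0, d, d)) hne1
  have v10 : ∀ t, ρ (X 10 t) v = ψ (d * t) • v := fun t => by
    rw [← f3_ten, ← f4_zero, hv]; simp [ch4_apply]
  have v11 : ∀ t, ρ (X 11 t) v = ψ (d * t) • v := fun t => by
    rw [← f3_eleven, ← f4_zero, hv]; simp [ch4_apply]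
  have v9 : ∀ t, ρ (X 9 t) v = v := fun t => by rw [← f3_nine, ← f4_zero, hv]; simp [ch4_apply]
  have fix7 : ∀ (z : V) (x : K), x ≠ 0 → (∀ t, ρ (X 10 t) z = ψ (x * t) • z) →
      ∀ t, ρ (X 7 t) z = z := by
    intro z x hx z10 t
    obtain ⟨e, he⟩ := exists_sign (K := K) 1
    have he10 : e 10 ≠ 0 := by rcases (he 10 (by norm_num)).1 with h | h <;> simp [h]
    have he7 : e 7 ≠ 0 := by rcases (he 7 (by norm_num)).1 with h | h <;> simp [h]
    have t11 : ∀ u, ρ (X 11 u) (ρ (nn 1) z) = ψ (x / e 10 * u) • ρ (nn 1) z := fun u => by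
      have h := (he 10 (by norm_num)).2 (u / e 10)
      rw [mul_div_cancel₀ _ he10, show refl (1 : Fin 2) 10 = 11 from rfl] at h
      have := eigen_conj ρ h (z10 (u / e 10))
      rwa [show x * (u / e 10) = x / e 10 * u by ring] at this
    have h8 := small_fixed ρ h3 hψ h0 (div_ne_zero hx he10) t11 (e 7 * t)
    have h := (he 7 (by norm_num)).2 t
    rw [show refl (1 : Fin 2) 7 = 8 from rfl] at h
    have h' : (nn 1)⁻¹ * X 8 (e 7 * t) * (nn 1)⁻¹⁻¹ = X 7 t := by rw [← h]; group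
    have := eigen_conj ρ h' (c := 1) (v := ρ (nn 1) z) (by rw [one_smul, h8])
    rwa [rho_cancel, one_smul] at this
  obtain ⟨s, hs0, hs1, hs2⟩ : ∃ s : K, s ≠ 0 ∧ s ≠ 1 ∧ s ≠ -1 := by
    by_contra! h
    have hsub : (Finset.univ : Finset K) ⊆ {0, 1, -1} := fun s _ => by
      simp only [Finset.mem_insert, Finset.mem_singleton]
      by_cases e1 : s = 0
      · exact Or.inl e1
      by_cases e2 : s = 1
      · exact Or.inr (Or.inl e2)
      exact Or.inr (Or.inr (h s e1 e2))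
    have := (Finset.card_le_card hsub).trans Finset.card_le_three
    rw [Finset.card_univ] at this
    omega
  have w10 : ∀ t, ρ (X 10 t) (ρ (X 6 s) v) = ψ ((d - d * s) * t) • ρ (X 6 s) v := fun t => by
    have e : X 6 s * (X 10 t * X 11 (-(s * t))) * (X 6 s)⁻¹ = X 10 t := by
      rw [conj_mul2, conj_six_ten, conj_eq_self (cm 6 11 (by decide +kernel) _ _), X_neg (by norm_num),
        mul_assoc, mul_inv_cancel, mul_one]
    refine eigen_conj ρ e ?_
    rw [rho_mul, v11, map_smul, v10, smul_smul, ← AddChar.map_add_eq_mul]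
    congr 2
    ring
  have hrel : ∀ t, ψ ((d * s + d * s ^ 2) * t ^ 3) = 1 := fun t => by
    have e : X 6 s * (X 7 t * (X 8 (-s * t) * (X 9 (-s * t ^ 2) *
        (X 10 (-(-s * t ^ 3)) * X 11 (-2 * (-s) ^ 2 * t ^ 3))))) * (X 6 s)⁻¹ = X 7 t := by
      rw [← conj_six_seven, X_neg (by norm_num)]
      group
    have hne' : d - d * s ≠ 0 := by
      rw [← mul_one_sub]
      exact mul_ne_zero hd (sub_ne_zero.2 (Ne.symm hs1))
    have hv7 := fix7 v d hd v10 t
    have h := congrArg (ρ (X 6 s)⁻¹) (fix7 _ _ hne' w10 t)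
    rw [rho_cancel, ← e, ← rho_mul, ← rho_mul,
      show (X 6 s)⁻¹ * (X 6 s * (X 7 t * (X 8 (-s * t) * (X 9 (-s * t ^ 2) *
        (X 10 (-(-s * t ^ 3)) * X 11 (-2 * (-s) ^ 2 * t ^ 3))))) * (X 6 s)⁻¹) * X 6 s =
        X 7 t * (X 8 (-s * t) * (X 9 (-s * t ^ 2) *
        (X 10 (-(-s * t ^ 3)) * X 11 (-2 * (-s) ^ 2 * t ^ 3)))) by group,
      rho_mul, rho_mul, rho_mul, rho_mul, v11, map_smul, v10, smul_smul, ← AddChar.map_add_eq_mul,
      map_smul, v9, map_smul, small_fixed ρ h3 hψ h0 hd v11, map_smul, hv7] at h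
    refine smul_left_injective ℂ hv0 ?_
    show _ • v = _ • v
    rw [one_smul]
    convert h using 3
    linear_combination d * s ^ 2 * t ^ 3 * h3
  have hcube : Function.Bijective fun t : K => t ^ 3 := by
    refine Finite.injective_iff_bijective.1 fun x y hxy => ?_
    exact sub_eq_zero.1 ((pow_eq_zero_iff three_ne_zero).1
      (by linear_combination hxy + (-(x ^ 2 * y) + x * y ^ 2) * h3 : (x - y) ^ 3 = 0))
  have hA := eq_zero_of_char hψ fun y => by
    obtain ⟨t, rfl⟩ := hcube.2 y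
    exact hrel t
  refine mul_ne_zero (mul_ne_zero hd hs0) (fun h : (1 + s : K) = 0 =>
    hs2 (eq_neg_of_add_eq_zero_right h)) ?_
  linear_combination hA

end CfsgLib.Known.G2Degree
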