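/-
Representations of G₂(q) in characteristic 3: the small blocks of characters.
-/
import Mathlib
import Cfsg.Agent.Lib.Known.G2Degree.Three
import Cfsg.Agent.Lib.Known.G2Degree.QCommon

set_option autoImplicit false
set_option linter.unusedSectionVars false
set_option maxRecDepth 20000

namespace CfsgLib.Known.G2Degree

open Cfsg.Lie CfsgLib.Chev CfsgLib.Known.D4Degree

universe v

variable {K : Type v} [Field K] [Fintype K]

theorem cube_bijective (h3 : (3 : K) = 0) : Function.Bijective fun t : K => t ^ 3 := by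
  refine Finite.injective_iff_bijective.1 fun x y hxy => ?_
  exact sub_eq_zero.1 ((pow_eq_zero_iff three_ne_zero).1
    (by linear_combination hxy + (-(x ^ 2 * y) + x * y ^ 2) * h3 : (x - y) ^ 3 = 0))

/-- A family of operators shifting the characters transitively makes all multiplicities equal. -/
theorem twist_uniform {G : Type*} [Group G] {W : Type*} [AddCommGroup W] [Module ℂ W]
    [FiniteDimensional ℂ W] (τ : Representation ℂ G W) {ψ : AddChar K ℂ} (hψ : ψ ≠ 1)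
    (f : K → G) (hf : ∀ a b, f (a + b) = f a * f b) (g : K → G) (β : K → K)
    (hβ : Function.Surjective β)
    (h : ∀ s t w, τ (g s * f t * (g s)⁻¹) w = ψ (β s * t) • τ (f t) w) :
    Module.finrank ℂ W = Fintype.card K * mu τ f 0 := by
  have hsame : ∀ χ, mu τ f χ = mu τ f 0 := fun χ => by
    obtain ⟨x, rfl⟩ := (mulShift_bijective hψ).2 χ
    obtain ⟨s, hs⟩ := hβ x
    refine mult_congr (op_add τ f hf) (S := τ (g s)) (T := τ (g s)⁻¹) (by rw [← map_mul]; simp)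
      (by rw [← map_mul]; simp) ?_
    have hconj : ∀ t, τ (g s) * op τ f t * τ (g s)⁻¹ = ψ (x * t) • op τ f t := fun t => by
      refine LinearMap.ext fun w => ?_
      rw [op, ← map_mul, ← map_mul, LinearMap.smul_apply, h, hs]
    have e : τ (g s) * proj (op τ f) (AddChar.mulShift ψ x) * τ (g s)⁻¹ = proj (op τ f) 0 := by
      simp only [proj, mul_smul_comm, smul_mul_assoc, Finset.mul_sum, Finset.sum_mul, hconj,
        smul_smul]
      refine congrArg _ (Finset.sum_congr rfl fun t _ => ?_)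
      rw [AddChar.mulShift_apply, ← AddChar.map_add_eq_mul, AddChar.zero_apply]
      simp
    rw [← e, mul_assoc, ← map_mul]
    simp
  rw [← sum_mu τ f hf, Finset.sum_congr rfl (fun χ _ => hsame χ), Finset.sum_const, Finset.card_univ,
    AddChar.card_eq, smul_eq_mul]

variable {V : Type*} [AddCommGroup V] [Module ℂ V] [FiniteDimensional ℂ V]
  (ρ : Representation ℂ ↥(chevG2.group K) V) {ψ : AddChar K ℂ} (hψ : ψ ≠ 1) (h3 : (3 : K) = 0)

/-- The vectors of a character quadruple. -/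
noncomputable def B4 (ψ : AddChar K ℂ) (p : K × K × K × K) : Submodule ℂ V :=
  LinearMap.range (pr ρ f4 (ch4 ψ p))

theorem finrank_B4 (a b c d : K) : Module.finrank ℂ (B4 ρ ψ (a, b, c, d)) = m4 ρ ψ a b c d := rfl

include h3

theorem B4_eigen {p : K × K × K × K} {v : V} (hv : v ∈ B4 ρ ψ p) :
    (∀ t, ρ (X 8 t) v = ψ (p.1 * t) • v) ∧ (∀ t, ρ (X 9 t) v = ψ (p.2.1 * t) • v) ∧
      (∀ t, ρ (X 10 t) v = ψ (p.2.2.1 * t) • v) ∧ (∀ t, ρ (X 11 t) v = ψ (p.2.2.2 * t) • v) := by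
  obtain ⟨w, rfl⟩ := hv
  refine ⟨fun t => ?_, fun t => ?_, fun t => ?_, fun t => ?_⟩
  · rw [← f4_eight, eigen_pr ρ f4 (f4_add h3)]; simp [ch4_apply]
  · rw [← f3_nine, ← f4_zero, eigen_pr ρ f4 (f4_add h3)]; simp [ch4_apply]
  · rw [← f3_ten, ← f4_zero, eigen_pr ρ f4 (f4_add h3)]; simp [ch4_apply]
  · rw [← f3_eleven, ← f4_zero, eigen_pr ρ f4 (f4_add h3)]; simp [ch4_apply]

theorem mem_B4 {p : K × K × K × K} {v : V} (h8 : ∀ t, ρ (X 8 t) v = ψ (p.1 * t) • v)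
    (h9 : ∀ t, ρ (X 9 t) v = ψ (p.2.1 * t) • v) (h10 : ∀ t, ρ (X 10 t) v = ψ (p.2.2.1 * t) • v)
    (h11 : ∀ t, ρ (X 11 t) v = ψ (p.2.2.2 * t) • v) : v ∈ B4 ρ ψ p :=
  mem_range ρ f4 (f4_add h3) fun x => by
    simp only [f4, f3, rho_mul, h8, h9, h10, h11, map_smul, smul_smul, ch4_apply,
      ← AddChar.map_add_eq_mul]
    congr 2
    ring

theorem B4_six {a b c d : K} (hd : d = 0) (s : K) : X 6 s ∈ stab ρ (B4 ρ ψ (a, b, c, d)) := by
  rintro _ ⟨w, rfl⟩
  exact ⟨ρ (X 6 s) w, pr_move ρ f4 (f4_add h3) _ _ (six_f4 s)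
    (fun p => by simp [ch4_apply, s6, hd]) w⟩

theorem B4_seven {a b c d : K} (hb : b = 0) (s : K) : X 7 s ∈ stab ρ (B4 ρ ψ (a, b, c, d)) := by
  rintro _ ⟨w, rfl⟩
  exact ⟨ρ (X 7 s) w, pr_move ρ f4 (f4_add h3) _ _ (seven_f4 h3 s)
    (fun p => by simp [ch4_apply, s7, hb]) w⟩

include hψ

/-- The block at a+b: its dimension is a multiple of q, and a vector fixed by the root group of a. -/
theorem block_eight : Fintype.card K ∣ m4 ρ ψ 1 0 0 0 ∧ (m4 ρ ψ 1 0 0 0 ≠ 0 →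
    ∃ z : V, z ≠ 0 ∧ z ∈ B4 ρ ψ (1, 0, 0, 0) ∧ ∀ t, ρ (X 7 t) z = z) := by
  let W := B4 ρ ψ ((1 : K), (0 : K), (0 : K), (0 : K))
  let f7 : K → ↥(stab ρ W) := fun t => ⟨X 7 t, B4_seven ρ h3 rfl t⟩
  have h7 : ∀ a b, f7 (a + b) = f7 a * f7 b := fun a b => Subtype.ext (X_add (by norm_num) a b)
  let g : K → ↥(stab ρ W) := fun t => ⟨X 6 t, B4_six ρ h3 rfl t⟩
  have key := twist_uniform (resW ρ W) hψ f7 h7 g (fun s => s) Function.surjective_id
    fun s t w => Subtype.ext (by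
      show ρ (X 6 s * X 7 t * (X 6 s)⁻¹) (w : V) = ψ (s * t) • ρ (X 7 t) (w : V)
      obtain ⟨e8, e9, e10, e11⟩ := B4_eigen ρ h3 w.2
      simp only [conj_six_seven, rho_mul, e8, e9, e10, e11, map_smul, smul_smul]
      simp)
  rw [finrank_B4] at key
  refine ⟨⟨_, key⟩, fun hne => ?_⟩
  obtain ⟨z, hz0, hz⟩ := exists_vec (resW ρ W) f7 h7 (χ := 0) fun h => hne (by rw [key, h, mul_zero])
  refine ⟨z, fun h => hz0 (Subtype.ext h), z.2, fun t => ?_⟩
  simpa [f7, resW_apply] using congrArg Subtype.val (hz t)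

/-- The block at 3a+b: its dimension is a multiple of q, and a vector fixed by the root group of b. -/
theorem block_ten : Fintype.card K ∣ m4 ρ ψ 0 0 1 0 ∧ (m4 ρ ψ 0 0 1 0 ≠ 0 →
    ∃ z : V, z ≠ 0 ∧ z ∈ B4 ρ ψ (0, 0, 1, 0) ∧ ∀ t, ρ (X 6 t) z = z) := by
  let W := B4 ρ ψ ((0 : K), (0 : K), (1 : K), (0 : K))
  let f6 : K → ↥(stab ρ W) := fun t => ⟨X 6 t, B4_six ρ h3 rfl t⟩
  have h6 : ∀ a b, f6 (a + b) = f6 a * f6 b := fun a b => Subtype.ext (X_add (by norm_num) a b)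
  let g : K → ↥(stab ρ W) := fun t => ⟨X 7 t, B4_seven ρ h3 rfl t⟩
  have key := twist_uniform (resW ρ W) hψ f6 h6 g (fun s => s ^ 3) (cube_bijective h3).2
    fun s t w => Subtype.ext (by
      show ρ (X 7 s * X 6 t * (X 7 s)⁻¹) (w : V) = ψ (s ^ 3 * t) • ρ (X 6 t) (w : V)
      obtain ⟨e8, e9, e10, e11⟩ := B4_eigen ρ h3 w.2
      simp only [conj_seven_six, rho_mul, e8, e9, e10, e11, map_smul, smul_smul]
      simp)
  rw [finrank_B4] at key
  refine ⟨⟨_, key⟩, fun hne => ?_⟩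
  obtain ⟨z, hz0, hz⟩ := exists_vec (resW ρ W) f6 h6 (χ := 0) fun h => hne (by rw [key, h, mul_zero])
  refine ⟨z, fun h => hz0 (Subtype.ext h), z.2, fun t => ?_⟩
  simpa [f6, resW_apply] using congrArg Subtype.val (hz t)

/-- A mixed block is at least three-dimensional. -/
theorem block_mixed (hq : 9 ≤ Fintype.card K) {c : K} (hc : c ≠ 0) (hne : m4 ρ ψ 1 0 c 0 ≠ 0) :
    3 ≤ m4 ρ ψ 1 0 c 0 := by
  classical
  let W := B4 ρ ψ ((1 : K), (0 : K), c, (0 : K))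
  let f6 : K → ↥(stab ρ W) := fun t => ⟨X 6 t, B4_six ρ h3 rfl t⟩
  have h6 : ∀ a b, f6 (a + b) = f6 a * f6 b := fun a b => Subtype.ext (X_add (by norm_num) a b)
  obtain ⟨z, hz0, x, hz⟩ : ∃ z : W, z ≠ 0 ∧ ∃ x, ∀ t, resW ρ W (f6 t) z = ψ (x * t) • z := by
    by_contra! h
    refine hne ?_
    rw [← finrank_B4, ← sum_mu (resW ρ W) f6 h6]
    refine Finset.sum_eq_zero fun χ _ => ?_
    obtain ⟨x, rfl⟩ := (mulShift_bijective hψ).2 χ
    by_contra hx
    obtain ⟨z, hz0, hz⟩ := exists_vec (resW ρ W) f6 h6 hx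
    obtain ⟨t, ht⟩ := h z hz0 x
    exact ht (by simpa [AddChar.mulShift_apply] using hz t)
  let F : K → K := fun t => t - c * t ^ 3
  have hfib : ∀ v, (Finset.univ.filter fun t => F t = v).card ≤ 3 := by
    intro v
    let P : Polynomial K := Polynomial.C c * Polynomial.X ^ 3 - Polynomial.X + Polynomial.C v
    have hP : P.natDegree = 3 := by
      simp only [P]; compute_degree!
    have hP0 : P ≠ 0 := fun h => by rw [h, Polynomial.natDegree_zero] at hP; omega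
    refine (Finset.card_le_card fun t ht => Multiset.mem_toFinset.2
      ((Polynomial.mem_roots hP0).2 ?_)).trans ((Multiset.toFinset_card_le _).trans
        ((Polynomial.card_roots' P).trans hP.le))
    have h := (Finset.mem_filter.1 ht).2
    simp [P, Polynomial.IsRoot, ← h, F]
  obtain ⟨t1, ht1⟩ : ∃ t, F t ≠ 0 := by
    by_contra! h
    have := hfib 0
    rw [Finset.filter_true_of_mem (fun t _ => h t), Finset.card_univ] at this
    omega
  obtain ⟨t2, ht2, ht2'⟩ : ∃ t, F t ≠ 0 ∧ F t ≠ F t1 := by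
    by_contra! h
    have hsub : (Finset.univ : Finset K) ⊆
        (Finset.univ.filter fun t => F t = 0) ∪ Finset.univ.filter fun t => F t = F t1 := fun t _ => by
      by_cases e : F t = 0
      · simp [e]
      · simp [h t e]
    have := (Finset.card_le_card hsub).trans (Finset.card_union_le _ _)
    have := hfib 0
    have := hfib (F t1)
    rw [Finset.card_univ] at *
    omega
  have hz6 : ∀ t, ρ (X 6 t) (z : V) = ψ (x * t) • (z : V) := fun t => congrArg Subtype.val (hz t)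
  have hv : ∀ t u, ρ (X 6 u) (ρ (X 7 t) (z : V)) = ψ ((x + F t) * u) • ρ (X 7 t) (z : V) := by
    intro t u
    have e : X 7 t * (X 6 u * (X 8 (-(-t * u)) * (X 9 ((-t) ^ 2 * u) * (X 10 ((-t) ^ 3 * u) *
        X 11 ((-t) ^ 3 * u ^ 2))))) * (X 7 t)⁻¹ = X 6 u := by
      rw [← conj_seven_six, X_neg (by norm_num)]
      group
    refine eigen_conj ρ e ?_
    obtain ⟨e8, e9, e10, e11⟩ := B4_eigen ρ h3 z.2
    simp only [rho_mul, e8, e9, e10, e11, map_smul, hz6, smul_smul, ← AddChar.map_add_eq_mul]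
    congr 2
    simp only [F]
    ring
  let T : Fin 3 → K := ![0, t1, t2]
  have hTinj : Function.Injective fun i => F (T i) := by
    have hF0 : F 0 = 0 := by simp [F]
    intro i j h
    fin_cases i <;> fin_cases j <;>
      simp [T, hF0, ht1, ht1.symm, ht2, ht2.symm, ht2', ht2'.symm] at h ⊢
  have := card_le_eigen (fun u : K => ρ (X 6 u)) (v := fun i => ρ (X 7 (T i)) (z : V))
    (χ := fun i u => ψ ((x + F (T i)) * u))
    (fun i j h => hTinj (add_left_cancel (eq_of_char hψ fun u => congrFun h u)))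
    (fun i => rho_ne ρ _ fun h => hz0 (Subtype.ext h)) (fun i u => hv (T i) u)
    (W := W) fun i => B4_seven ρ h3 rfl _ _ z.2
  simpa [W, finrank_B4] using this

/-- The fixed space of the abelian subgroup carries many characters. -/
theorem block_zero (h8 : m4 ρ ψ 1 0 0 0 ≠ 0) (h10 : m4 ρ ψ 0 0 1 0 ≠ 0) (hq : 3 ≤ Fintype.card K) :
    2 * (Fintype.card K - 1) ≤ m4 ρ ψ 0 0 0 0 := by
  classical
  let W := B4 ρ ψ ((0 : K), (0 : K), (0 : K), (0 : K))
  let g6 : K → ↥(stab ρ W) := fun t => ⟨X 6 t, B4_six ρ h3 rfl t⟩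
  let g7 : K → ↥(stab ρ W) := fun t => ⟨X 7 t, B4_seven ρ h3 rfl t⟩
  have a6 : ∀ a b, g6 (a + b) = g6 a * g6 b := fun a b => Subtype.ext (X_add (by norm_num) a b)
  have a7 : ∀ a b, g7 (a + b) = g7 a * g7 b := fun a b => Subtype.ext (X_add (by norm_num) a b)
  have hcomm : ∀ t u (w : W), resW ρ W (g7 t) (resW ρ W (g6 u) w) =
      resW ρ W (g6 u) (resW ρ W (g7 t) w) := fun t u w => Subtype.ext (by
    show ρ (X 7 t) (ρ (X 6 u) (w : V)) = ρ (X 6 u) (ρ (X 7 t) (w : V))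
    have e : X 7 t * X 6 u = X 6 u * (X 8 (-(t * u)) * (X 9 (t ^ 2 * u) * (X 10 (t ^ 3 * u) *
        X 11 (t ^ 3 * u ^ 2)))) * X 7 t := by
      rw [← conj_seven_six, inv_mul_cancel_right]
    obtain ⟨e8, e9, e10, e11⟩ := B4_eigen ρ h3 (B4_seven ρ h3 rfl t _ w.2)
    rw [← rho_mul, e]
    simp only [rho_mul, e8, e9, e10, e11, map_smul, smul_smul]
    simp)
  have joint : ∀ (y : V), y ∈ W → y ≠ 0 → ∀ (c : K), (∀ t, ρ (X 7 t) y = ψ (c * t) • y) →
      ∃ z : V, z ∈ W ∧ z ≠ 0 ∧ ∃ x, (∀ t, ρ (X 6 t) z = ψ (x * t) • z) ∧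
        ∀ t, ρ (X 7 t) z = ψ (c * t) • z := by
    intro y hy hy0 c hc
    obtain ⟨χ, hχ⟩ : ∃ χ, pr (resW ρ W) g6 χ ⟨y, hy⟩ ≠ 0 := by
      by_contra! h
      exact hy0 (congrArg Subtype.val ((sum_pr (resW ρ W) g6 a6 ⟨y, hy⟩).symm.trans
        (Finset.sum_eq_zero fun χ _ => h χ)))
    obtain ⟨x, rfl⟩ := (mulShift_bijective hψ).2 χ
    refine ⟨_, Submodule.coe_mem _, fun h => hχ (Subtype.ext h), x,
      fun t => congrArg Subtype.val (eigen_pr (resW ρ W) g6 a6 (AddChar.mulShift ψ x) ⟨y, hy⟩ t),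
      fun t => ?_⟩
    have e : resW ρ W (g7 t) (pr (resW ρ W) g6 (AddChar.mulShift ψ x) ⟨y, hy⟩) =
        ψ (c * t) • pr (resW ρ W) g6 (AddChar.mulShift ψ x) ⟨y, hy⟩ := by
      rw [pr_comm_op (resW ρ W) g6 (resW ρ W (g7 t)) (fun a w => hcomm t a w), ← map_smul]
      exact congrArg _ (Subtype.ext (hc t))
    exact congrArg Subtype.val e
  have joint' : ∀ (y : V), y ∈ W → y ≠ 0 → ∀ (c : K), (∀ t, ρ (X 6 t) y = ψ (c * t) • y) →
      ∃ z : V, z ∈ W ∧ z ≠ 0 ∧ ∃ x, (∀ t, ρ (X 6 t) z = ψ (c * t) • z) ∧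
        ∀ t, ρ (X 7 t) z = ψ (x * t) • z := by
    intro y hy hy0 c hc
    obtain ⟨χ, hχ⟩ : ∃ χ, pr (resW ρ W) g7 χ ⟨y, hy⟩ ≠ 0 := by
      by_contra! h
      exact hy0 (congrArg Subtype.val ((sum_pr (resW ρ W) g7 a7 ⟨y, hy⟩).symm.trans
        (Finset.sum_eq_zero fun χ _ => h χ)))
    obtain ⟨x, rfl⟩ := (mulShift_bijective hψ).2 χ
    refine ⟨_, Submodule.coe_mem _, fun h => hχ (Subtype.ext h), x, fun t => ?_,
      fun t => congrArg Subtype.val (eigen_pr (resW ρ W) g7 a7 (AddChar.mulShift ψ x) ⟨y, hy⟩ t)⟩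
    have e : resW ρ W (g6 t) (pr (resW ρ W) g7 (AddChar.mulShift ψ x) ⟨y, hy⟩) =
        ψ (c * t) • pr (resW ρ W) g7 (AddChar.mulShift ψ x) ⟨y, hy⟩ := by
      rw [pr_comm_op (resW ρ W) g7 (resW ρ W (g6 t)) (fun a w => (hcomm a t w).symm), ← map_smul]
      exact congrArg _ (Subtype.ext (hc t))
    exact congrArg Subtype.val e
  have trans' : ∀ {z : V}, z ∈ W → z ≠ 0 → ∀ {x y : K}, (∀ t, ρ (X 6 t) z = ψ (x * t) • z) →
      (∀ t, ρ (X 7 t) z = ψ (y * t) • z) → ∀ A B : Kˣ, ∃ z' : V, z' ∈ W ∧ z' ≠ 0 ∧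
        (∀ t, ρ (X 6 t) z' = ψ (x * A * t) • z') ∧ ∀ t, ρ (X 7 t) z' = ψ (y * B * t) • z' := by
    intro z hz hz0 x y h6 h7 A B
    obtain ⟨u, w, hA, hB⟩ : ∃ u w : Kˣ, (u : K) ^ 3 / (w : K) ^ 2 = A ∧ (w : K) / (u : K) ^ 2 = B := by
      refine ⟨A⁻¹ * B⁻¹ ^ 2, A⁻¹ ^ 2 * B⁻¹ ^ 3, ?_, ?_⟩ <;> simp <;> field_simp
    obtain ⟨e8, e9, e10, e11⟩ := B4_eigen ρ h3 hz
    have tw : ∀ (r : ℕ) (wt : K), wt ≠ 0 →
        (∀ t, tor u w * X r t * (tor u w)⁻¹ = X r (wt * t)) → ∀ (a : K),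
        (∀ t, ρ (X r t) z = ψ (a * t) • z) →
        ∀ t, ρ (X r t) (ρ (tor u w) z) = ψ (a / wt * t) • ρ (tor u w) z := by
      intro r wt hwt htor a ha t
      have e := htor (t / wt)
      rw [mul_div_cancel₀ _ hwt] at e
      have := eigen_conj ρ e (ha (t / wt))
      rwa [show a * (t / wt) = a / wt * t by ring] at this
    refine ⟨ρ (tor u w) z, mem_B4 ρ h3 ?_ ?_ ?_ ?_, rho_ne ρ _ hz0, fun t => ?_, fun t => ?_⟩
    · intro t; simpa using tw 8 _ (by simp) (tor_eight u w) 0 e8 t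
    · intro t; simpa using tw 9 _ (by simp) (tor_nine u w) 0 e9 t
    · intro t; simpa using tw 10 _ (by simp) (tor_ten u w) 0 e10 t
    · intro t; simpa using tw 11 _ (by simp) (tor_eleven u w) 0 e11 t
    · rw [tw 6 _ (by simp) (tor_six u w) x h6 t, ← hA]
      congr 2; field_simp
    · rw [tw 7 _ (by simp) (tor_seven u w) y h7 t, ← hB]
      congr 2; field_simp
  have flip : ∀ {i : Fin 2} {r : ℕ}, r < 12 → ∀ {z : V}, ∀ {c : K},
      (∀ t, ρ (X r t) z = ψ (c * t) • z) → ∃ e : K, e ≠ 0 ∧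
        ∀ t, ρ (X (refl i r) t) (ρ (nn i) z) = ψ (c * e * t) • ρ (nn i) z := by
    intro i r hr z c hz
    obtain ⟨e, he⟩ := exists_sign (K := K) i
    refine ⟨e r, by rcases (he r hr).1 with h | h <;> simp [h], fun t => ?_⟩
    have h := (he r hr).2 (e r * t)
    rw [show e r * (e r * t) = t by rcases (he r hr).1 with h | h <;> simp [h]] at h
    rw [show c * e r * t = c * (e r * t) by ring]
    exact eigen_conj ρ h (hz _)
  obtain ⟨z8, z80, z8m, z87⟩ := (block_eight ρ hψ h3).2 h8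
  obtain ⟨e8, e9, e10, e11⟩ := B4_eigen ρ h3 z8m
  obtain ⟨s7, -, f7'⟩ := flip (i := 1) (r := 7) (by norm_num) (z := z8) (c := 0)
    (fun t => by simp [z87 t])
  obtain ⟨s8, hs8, f8'⟩ := flip (i := 1) (r := 8) (by norm_num) e8
  obtain ⟨_, -, f9'⟩ := flip (i := 1) (r := 9) (by norm_num) e9
  obtain ⟨_, -, f10'⟩ := flip (i := 1) (r := 10) (by norm_num) e10
  obtain ⟨_, -, f11'⟩ := flip (i := 1) (r := 11) (by norm_num) e11
  have ymem : ρ (nn 1) z8 ∈ W := mem_B4 ρ h3 (fun t => by simpa [refl] using f7' t)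
    (fun t => by simpa [refl] using f9' t) (fun t => by simpa [refl] using f11' t)
    (fun t => by simpa [refl] using f10' t)
  obtain ⟨z, hzW, hz0, x0, hz6, hz7⟩ := joint _ ymem (rho_ne ρ _ z80) (1 * s8)
    (fun t => by simpa [refl] using f8' t)
  obtain ⟨y8, y80, y8m, y86⟩ := (block_ten ρ hψ h3).2 h10
  obtain ⟨d8, d9, d10, d11⟩ := B4_eigen ρ h3 y8m
  obtain ⟨s6, -, g6'⟩ := flip (i := 0) (r := 6) (by norm_num) (z := y8) (c := 0)
    (fun t => by simp [y86 t])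
  obtain ⟨_, -, g8'⟩ := flip (i := 0) (r := 8) (by norm_num) d8
  obtain ⟨_, -, g9'⟩ := flip (i := 0) (r := 9) (by norm_num) d9
  obtain ⟨s10, hs10, g10'⟩ := flip (i := 0) (r := 10) (by norm_num) d10
  obtain ⟨_, -, g11'⟩ := flip (i := 0) (r := 11) (by norm_num) d11
  have ymem' : ρ (nn 0) y8 ∈ W := mem_B4 ρ h3 (fun t => by simpa [refl] using g9' t)
    (fun t => by simpa [refl] using g8' t) (fun t => by simpa [refl] using g6' t)
    (fun t => by simpa [refl] using g11' t)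
  obtain ⟨z', hzW', hz0', y1, hz6', hz7'⟩ := joint' _ ymem' (rho_ne ρ _ y80) (1 * s10)
    (fun t => by simpa [refl] using g10' t)
  have hbase : ∀ (z : V), z ∈ W → z ≠ 0 → ∀ (x y : K), x ≠ 0 → y ≠ 0 →
      (∀ t, ρ (X 6 t) z = ψ (x * t) • z) → (∀ t, ρ (X 7 t) z = ψ (y * t) • z) →
      (Fintype.card K - 1) * (Fintype.card K - 1) ≤ m4 ρ ψ 0 0 0 0 := by
    intro z hzW hz0 x y hx hy h6 h7
    choose Z hZW hZ0 hZ6 hZ7 using fun p : Kˣ × Kˣ => trans' hzW hz0 h6 h7 p.1 p.2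
    have := card_le_eigen (fun j : K ⊕ K => Sum.elim (fun t => ρ (X 6 t)) (fun t => ρ (X 7 t)) j)
      (v := Z) (χ := fun p j => Sum.elim (fun t => ψ (x * (p.1 : K) * t))
        (fun t => ψ (y * (p.2 : K) * t)) j)
      (fun p p' h => Prod.ext
        (Units.ext (mul_left_cancel₀ hx (eq_of_char hψ fun t => congrFun h (Sum.inl t))))
        (Units.ext (mul_left_cancel₀ hy (eq_of_char hψ fun t => congrFun h (Sum.inr t)))))
      hZ0 (fun p j => by rcases j with t | t <;> simp [hZ6, hZ7]) (W := W) hZW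
    rwa [Fintype.card_prod, Fintype.card_units, finrank_B4] at this
  have hbig : 2 * (Fintype.card K - 1) ≤ (Fintype.card K - 1) * (Fintype.card K - 1) :=
    Nat.mul_le_mul_right _ (by omega)
  by_cases hx0 : x0 = 0
  swap
  · exact hbig.trans (hbase z hzW hz0 x0 _ hx0 (mul_ne_zero one_ne_zero hs8) hz6 hz7)
  by_cases hy1 : y1 = 0
  swap
  · exact hbig.trans (hbase z' hzW' hz0' _ y1 (mul_ne_zero one_ne_zero hs10) hy1 hz6' hz7')
  subst hx0 hy1
  choose Z hZW hZ0 hZ6 hZ7 using fun p : Kˣ => trans' hzW hz0 hz6 hz7 1 p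
  choose Z' hZW' hZ0' hZ6' hZ7' using fun p : Kˣ => trans' hzW' hz0' hz6' hz7' p 1
  let O : K ⊕ K → Module.End ℂ V := Sum.elim (fun t => ρ (X 6 t)) (fun t => ρ (X 7 t))
  let χ : Kˣ ⊕ Kˣ → K ⊕ K → ℂ := Sum.elim
    (fun p => Sum.elim (fun _ => 1) (fun t => ψ (1 * s8 * (p : K) * t)))
    (fun p => Sum.elim (fun t => ψ (1 * s10 * (p : K) * t)) (fun _ => 1))
  have hinj : Function.Injective χ := by
    rintro (p | p) (p' | p') h
    · exact congrArg Sum.inl (Units.ext (mul_left_cancel₀ (mul_ne_zero one_ne_zero hs8)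
        (eq_of_char hψ fun t => congrFun h (Sum.inr t))))
    · exact absurd (eq_zero_of_char hψ fun t => congrFun h (Sum.inr t))
        (mul_ne_zero (mul_ne_zero one_ne_zero hs8) p.ne_zero)
    · exact absurd (eq_zero_of_char hψ fun t => (congrFun h (Sum.inr t)).symm)
        (mul_ne_zero (mul_ne_zero one_ne_zero hs8) p'.ne_zero)
    · exact congrArg Sum.inr (Units.ext (mul_left_cancel₀ (mul_ne_zero one_ne_zero hs10)
        (eq_of_char hψ fun t => congrFun h (Sum.inl t))))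
  have := card_le_eigen O (v := Sum.elim Z Z') hinj (by rintro (p | p) <;> simp [hZ0, hZ0'])
    (by rintro (p | p) (t | t) <;> simp [O, χ, hZ6, hZ7, hZ6', hZ7'])
    (W := W) (by rintro (p | p) <;> simp [hZW, hZW'])
  rw [Fintype.card_sum, Fintype.card_units, finrank_B4] at this
  omega

end CfsgLib.Known.G2Degree
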