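/-
Representations of G₂(q) in characteristic 3: the count of the blocks.
-/
import Mathlib
import Cfsg.Agent.Lib.Known.G2Degree.ThreeBlocks

set_option autoImplicit false
set_option linter.unusedSectionVars false
set_option maxRecDepth 20000

namespace CfsgLib.Known.G2Degree

open Cfsg.Lie CfsgLib.Chev

universe v

variable {K : Type v} [Field K] [Fintype K]
variable {V : Type*} [AddCommGroup V] [Module ℂ V] [FiniteDimensional ℂ V]
  (ρ : Representation ℂ ↥(chevG2.group K) V) {ψ : AddChar K ℂ} (hψ : ψ ≠ 1) (h3 : (3 : K) = 0)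

omit hψ h3 in
/-- The scaled non-zero squares make up half of the non-zero elements at least. -/
theorem squares_card {c : K} (hc : c ≠ 0) : ∃ S : Finset K,
    (∀ x ∈ S, ∃ u : Kˣ, c * (u : K) ^ 2 = x) ∧ Fintype.card K - 1 ≤ 2 * S.card := by
  classical
  refine ⟨((Finset.univ : Finset K).erase 0).image fun x => c * x ^ 2, fun y hy => ?_, ?_⟩
  · obtain ⟨x, hx, rfl⟩ := Finset.mem_image.1 hy
    exact ⟨Units.mk0 x (Finset.ne_of_mem_erase hx), rfl⟩
  · rw [← Finset.card_univ (α := K), ← Finset.card_erase_of_mem (Finset.mem_univ (0 : K))]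
    refine Finset.card_le_mul_card_image _ 2 fun b hb => ?_
    obtain ⟨x₀, -, rfl⟩ := Finset.mem_image.1 hb
    refine (Finset.card_le_card (t := {x₀, -x₀}) fun x hx => ?_).trans Finset.card_le_two
    have h := mul_left_cancel₀ hc (Finset.mem_filter.1 hx).2
    rcases sq_eq_sq_iff_eq_or_eq_neg.1 h with h | h <;> simp [h]

/-- A sum whose non-zero terms are constant. -/
theorem sum_split {ι : Type*} [Fintype ι] [DecidableEq ι] (i₀ : ι) (f : ι → ℕ) (c : ℕ)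
    (h : ∀ i, i ≠ i₀ → f i = c) : ∑ i, f i = f i₀ + (Fintype.card ι - 1) * c := by
  rw [← Finset.add_sum_erase _ _ (Finset.mem_univ i₀),
    Finset.sum_congr rfl (fun i hi => h i (Finset.ne_of_mem_erase hi)), Finset.sum_const, smul_eq_mul,
    Finset.card_erase_of_mem (Finset.mem_univ _), Finset.card_univ]

include h3

theorem m4_A2 {a b : K} (hb : b ≠ 0) : m4 ρ ψ a b 0 0 = m4 ρ ψ 0 1 0 0 := by
  have e1 := m4_seven ρ ψ h3 (a / b) 0 b 0 0
  rw [zero_add, div_mul_cancel₀ _ hb] at e1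
  have e2 := m4_tor ρ ψ h3 (Units.mk0 b hb) 1 0 1 0 0
  simp only [zero_mul, one_mul, Units.val_mk0, Units.val_one] at e2
  rw [e1, e2]

theorem m4_A4 {c d : K} (hd : d ≠ 0) : m4 ρ ψ 0 0 c d = m4 ρ ψ 0 0 0 1 := by
  have e1 := m4_six ρ ψ h3 (c / d) 0 0 0 d
  rw [zero_add, div_mul_cancel₀ _ hd] at e1
  have e2 := m4_tor ρ ψ h3 1 (Units.mk0 d hd) 0 0 0 1
  simp only [zero_mul, one_mul, Units.val_mk0] at e2
  rw [e1, e2]

theorem m4_eight {a : K} (ha : a ≠ 0) : m4 ρ ψ a 0 0 0 = m4 ρ ψ 1 0 0 0 := by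
  have e2 := m4_tor ρ ψ h3 1 (Units.mk0 a ha) 1 0 0 0
  simpa using e2

theorem m4_ten {c : K} (hc : c ≠ 0) : m4 ρ ψ 0 0 c 0 = m4 ρ ψ 0 0 1 0 := by
  have e2 := m4_tor ρ ψ h3 1 (Units.mk0 c⁻¹ (inv_ne_zero hc)) 0 0 1 0
  simpa using e2

theorem row_eight {a : K} (ha : a ≠ 0) : ∑ c, m4 ρ ψ a 0 c 0 = ∑ c, m4 ρ ψ 1 0 c 0 := by
  symm
  refine Fintype.sum_equiv (Equiv.mulLeft₀ a⁻¹ (inv_ne_zero ha)) _ _ fun c => ?_
  have e2 := m4_tor ρ ψ h3 1 (Units.mk0 a ha) 1 0 c 0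
  simp only [zero_mul, one_mul, Units.val_mk0, Units.val_one, div_one, one_pow, one_div] at e2
  show m4 ρ ψ 1 0 c 0 = m4 ρ ψ a 0 (a⁻¹ * c) 0
  rw [← e2, mul_comm a⁻¹]

theorem row_ten {c : K} (hc : c ≠ 0) : ∑ a, m4 ρ ψ a 0 c 0 = ∑ a, m4 ρ ψ a 0 1 0 := by
  symm
  refine Fintype.sum_equiv (Equiv.mulLeft₀ c⁻¹ (inv_ne_zero hc)) _ _ fun a => ?_
  have e2 := m4_tor ρ ψ h3 1 (Units.mk0 c⁻¹ (inv_ne_zero hc)) a 0 1 0
  simp only [zero_mul, one_mul, Units.val_mk0, Units.val_one, div_one, one_pow, one_div, inv_inv] at e2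
  show m4 ρ ψ a 0 1 0 = m4 ρ ψ (c⁻¹ * a) 0 c 0
  rw [← e2, mul_comm c⁻¹]

include hψ

/-- The two marginal relations. -/
theorem relations : (m4 ρ ψ 0 1 0 0 + (Fintype.card K - 1) * m4 ρ ψ 0 1 0 1 = ∑ c, m4 ρ ψ 1 0 c 0) ∧
    (m4 ρ ψ 0 0 0 1 + (Fintype.card K - 1) * m4 ρ ψ 0 1 0 1 = ∑ a, m4 ρ ψ a 0 1 0) := by
  classical
  constructor
  · obtain ⟨u, w, z, hn⟩ := n7_marg ρ h3 hψ
    have e := hn 1 0 0
    simp only [zero_mul, one_mul] at e
    rw [← e, sum_split (0 : K) _ _ (fun c hc => m4_generic ρ h3 hψ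
      (Or.inr ⟨w.ne_zero, fun h => hc h.1⟩)), m4_A2 ρ h3 w.ne_zero]
  · obtain ⟨u, w, z, hn⟩ := n6_marg ρ h3 hψ
    have e := hn 0 1 0
    simp only [zero_mul, one_mul] at e
    rw [← e, sum_split (0 : K) _ _ (fun a ha => m4_generic ρ h3 hψ
      (Or.inl ⟨z.ne_zero, fun h => ha h.1⟩)), m4_A4 ρ h3 z.ne_zero]

theorem sum_m4 : ∑ p : K × K × K × K, m4 ρ ψ p.1 p.2.1 p.2.2.1 p.2.2.2 = Module.finrank ℂ V := by
  rw [← sum_mu ρ f4 (f4_add h3)]
  exact Fintype.sum_bijective (ch4 ψ) (ch4_bijective hψ) _ _ fun p => rfl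

/-- The dimension, block by block. -/
theorem finrank_three : Module.finrank ℂ V =
    (Fintype.card K - 1) * (Fintype.card K * (m4 ρ ψ 0 1 0 0 +
      (Fintype.card K * Fintype.card K - 1) * m4 ρ ψ 0 1 0 1)) +
    (Fintype.card K - 1) * (Fintype.card K * m4 ρ ψ 0 0 0 1 +
      (Fintype.card K - 1) * (Fintype.card K * m4 ρ ψ 0 1 0 1)) +
    ∑ a, ∑ c, m4 ρ ψ a 0 c 0 := by
  classical
  rw [← sum_m4 ρ hψ h3, Fintype.sum_prod_type, Finset.sum_congr rfl (fun a _ => Fintype.sum_prod_type _),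
    Finset.sum_comm, ← Finset.add_sum_erase _ _ (Finset.mem_univ (0 : K))]
  have hb : ∀ b : K, b ≠ 0 → ∑ a, ∑ p : K × K, m4 ρ ψ a b p.1 p.2 = Fintype.card K *
      (m4 ρ ψ 0 1 0 0 + (Fintype.card K * Fintype.card K - 1) * m4 ρ ψ 0 1 0 1) := by
    intro b hb
    rw [Finset.sum_congr rfl fun a _ => sum_split ((0 : K), (0 : K))
      (fun p : K × K => m4 ρ ψ a b p.1 p.2) _ fun p hp =>
        m4_generic ρ h3 hψ (Or.inr ⟨hb, fun h => hp (Prod.ext h.1 h.2)⟩)]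
    simp only [m4_A2 ρ h3 hb, Finset.sum_const, Finset.card_univ, Fintype.card_prod, smul_eq_mul]
  have hd : ∀ d : K, d ≠ 0 → ∑ a, ∑ c, m4 ρ ψ a 0 c d = Fintype.card K * m4 ρ ψ 0 0 0 1 +
      (Fintype.card K - 1) * (Fintype.card K * m4 ρ ψ 0 1 0 1) := by
    intro d hd
    rw [sum_split (0 : K) _ (Fintype.card K * m4 ρ ψ 0 1 0 1) fun a ha => ?_]
    · simp only [m4_A4 ρ h3 hd, Finset.sum_const, Finset.card_univ, smul_eq_mul]
    · simp only [m4_generic ρ h3 hψ (a := a) (b := 0) (d := d) (Or.inl ⟨hd, fun h => ha h.1⟩),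
        Finset.sum_const, Finset.card_univ, smul_eq_mul]
  rw [Finset.sum_congr rfl (fun b hb' => hb b (Finset.ne_of_mem_erase hb')), Finset.sum_const,
    smul_eq_mul, Finset.card_erase_of_mem (Finset.mem_univ _), Finset.card_univ]
  have h0 : ∑ a, ∑ p : K × K, m4 ρ ψ a 0 p.1 p.2 =
      (∑ a, ∑ c, m4 ρ ψ a 0 c 0) + (Fintype.card K - 1) * (Fintype.card K * m4 ρ ψ 0 0 0 1 +
        (Fintype.card K - 1) * (Fintype.card K * m4 ρ ψ 0 1 0 1)) := by
    rw [Finset.sum_congr rfl (fun a _ => Fintype.sum_prod_type _),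
      Finset.sum_congr rfl (fun a _ => Finset.sum_comm), Finset.sum_comm,
      sum_split (0 : K) _ _ hd]
  rw [h0]
  ring

/-- The block of the pairs, in two ways. -/
theorem pair_block : (∑ a, ∑ c, m4 ρ ψ a 0 c 0 = m4 ρ ψ 0 0 0 0 +
      (Fintype.card K - 1) * m4 ρ ψ 0 0 1 0 + (Fintype.card K - 1) * ∑ c, m4 ρ ψ 1 0 c 0) ∧
    (∑ a, ∑ c, m4 ρ ψ a 0 c 0 = m4 ρ ψ 0 0 0 0 +
      (Fintype.card K - 1) * m4 ρ ψ 1 0 0 0 + (Fintype.card K - 1) * ∑ a, m4 ρ ψ a 0 1 0) := by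
  classical
  constructor
  · rw [sum_split (0 : K) _ _ fun a ha => row_eight ρ h3 ha,
      sum_split (0 : K) _ _ fun c hc => m4_ten ρ h3 hc]
  · rw [Finset.sum_comm, sum_split (0 : K) _ _ fun c hc => row_ten ρ h3 hc,
      sum_split (0 : K) _ _ fun a ha => m4_eight ρ h3 ha]

/-- A non-empty mixed block forces a large row. -/
theorem row_large (hq : 9 ≤ Fintype.card K) {c : K} (hc : c ≠ 0) (hne : m4 ρ ψ 1 0 c 0 ≠ 0) :
    3 * (Fintype.card K - 1) + 2 * m4 ρ ψ 1 0 0 0 ≤ 2 * ∑ c, m4 ρ ψ 1 0 c 0 := by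
  classical
  have hsame : ∀ u : Kˣ, m4 ρ ψ 1 0 (c * (u : K) ^ 2) 0 = m4 ρ ψ 1 0 c 0 := fun u => by
    have e := m4_tor ρ ψ h3 u u 1 0 c 0
    simp only [zero_mul, div_self u.ne_zero, mul_one] at e
    rwa [show (u : K) ^ 3 / u = (u : K) ^ 2 by field_simp] at e
  obtain ⟨S, hSmem, hfib⟩ := squares_card hc
  have h3' := block_mixed ρ hψ h3 hq hc hne
  have hS : S.card * 3 ≤ ∑ x ∈ (Finset.univ : Finset K).erase 0, m4 ρ ψ 1 0 x 0 := by
    refine le_trans ?_ (Finset.sum_le_sum_of_subset (s := S) ?_)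
    · refine (Finset.card_nsmul_le_sum S _ 3 fun x hx => ?_)
      obtain ⟨u, rfl⟩ := hSmem x hx
      rw [hsame]
      exact h3'
    · intro x hx
      obtain ⟨u, rfl⟩ := hSmem x hx
      exact Finset.mem_erase.2 ⟨by simp [hc], Finset.mem_univ _⟩
  rw [← Finset.add_sum_erase _ _ (Finset.mem_univ (0 : K))]
  omega

omit hψ in
/-- Subtraction-free form of the count. -/
theorem count_arith {q e e' A2 A4 C1 C2 G k m0 : ℕ} {p : ℕ} (hqp : q = p + 1) (hp : 8 ≤ p)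
    (hk : k = p * (q * (A2 + (q * q - 1) * 1)) + p * (q * A4 + p * (q * 1)) + G)
    (hA2 : A2 + p = C1) (hA4 : A4 + p = C2)
    (hG : G = m0 + p * (q * e') + p * C1) (hG' : G = m0 + p * (q * e) + p * C2) :
    (3 * p + 2 * (q * e) ≤ 2 * C1 → q ^ 4 + q ^ 2 + 1 ≤ k) ∧
    (C1 = q * e → C2 = q * e' → 2 ≤ e ∨ 2 ≤ e' → q ^ 4 + q ^ 2 + 1 ≤ k) ∧
    (C1 = q * e → C2 = q * e' → e = 1 → e' = 1 → k + 2 * q = q ^ 4 + q ^ 2 + m0) := by
  subst hqp
  rw [show (p + 1) * (p + 1) - 1 = p * p + 2 * p by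
    rw [show (p + 1) * (p + 1) = p * p + 2 * p + 1 by ring, Nat.add_sub_cancel]] at hk
  subst hk
  refine ⟨fun hbig => ?_, fun h1 h2 he => ?_, fun h1 h2 he he' => ?_⟩
  · have hbig' : p * (3 * p + 2 * ((p + 1) * e)) ≤ p * (2 * C1) := Nat.mul_le_mul_left _ hbig
    have h2' : 3 * p ≤ 2 * C2 := by
      have h1 : p * (2 * C2 + 2 * ((p + 1) * e)) = p * (2 * C1 + 2 * ((p + 1) * e')) := by
        nlinarith
      have := Nat.eq_of_mul_eq_mul_left (by omega) h1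
      omega
    nlinarith [Nat.mul_le_mul_left (p * (p + 1)) (show p ≤ 2 * A2 by omega),
      Nat.mul_le_mul_left (p * (p + 1)) (show p ≤ 2 * A4 by omega), Nat.mul_le_mul hp hp]
  · have hG2 := hG
    subst h1 h2
    rcases he with he | he
    · have : p + 2 ≤ A2 := by
        have := Nat.mul_le_mul_left (p + 1) he
        omega
      nlinarith [Nat.mul_le_mul_left (p * (p + 1)) this, Nat.mul_le_mul hp hp]
    · have : p + 2 ≤ A4 := by
        have := Nat.mul_le_mul_left (p + 1) he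
        omega
      nlinarith [Nat.mul_le_mul_left (p * (p + 1)) this, Nat.mul_le_mul hp hp]
  · subst h1 h2 he he'
    obtain rfl : A2 = 1 := by omega
    obtain rfl : A4 = 1 := by omega
    rw [hG]
    ring

/-- The bound in characteristic 3, up to three exceptional degrees. -/
theorem bound_three (hq : 9 ≤ Fintype.card K) (hinj : ∀ g, (∀ v, ρ g v = v) → g = 1) :
    Fintype.card K ^ 4 + Fintype.card K ^ 2 + 1 ≤ Module.finrank ℂ V ∨
    (Fintype.card K ^ 4 + Fintype.card K ^ 2 ≤ Module.finrank ℂ V + 2 ∧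
      Module.finrank ℂ V ≤ Fintype.card K ^ 4 + Fintype.card K ^ 2) := by
  classical
  have hr := m4_pos ρ h3 hψ hq hinj
  have hk := finrank_three ρ hψ h3
  obtain ⟨hA2, hA4⟩ := relations ρ hψ h3
  obtain ⟨hG, hG'⟩ := pair_block ρ hψ h3
  obtain ⟨e, he⟩ := (block_eight ρ hψ h3).1
  obtain ⟨e', he'⟩ := (block_ten ρ hψ h3).1
  obtain ⟨p, hp⟩ : ∃ p, Fintype.card K = p + 1 := ⟨Fintype.card K - 1, by omega⟩
  rcases Nat.lt_or_ge (m4 ρ ψ 0 1 0 1) 2 with h | h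
  swap
  · left
    rw [hp] at hk ⊢
    rw [show (p + 1) * (p + 1) - 1 = p * p + 2 * p by
      rw [show (p + 1) * (p + 1) = p * p + 2 * p + 1 by ring, Nat.add_sub_cancel],
      Nat.add_sub_cancel] at hk
    have hp8 : 8 ≤ p := by omega
    rw [hk]
    have t1 := Nat.mul_le_mul_left (p * (p + 1) * (p * p + 2 * p)) h
    have t2 := Nat.mul_le_mul_left (p * p * (p + 1)) h
    have q1 := Nat.mul_le_mul_left (p * p * p) hp8
    have q2 := Nat.mul_le_mul_left (p * p) hp8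
    have q3 := Nat.mul_le_mul_left p hp8
    linarith [Nat.zero_le (p * ((p + 1) * m4 ρ ψ 0 1 0 0)), Nat.zero_le (p * ((p + 1) * m4 ρ ψ 0 0 0 1)),
      Nat.zero_le (∑ a, ∑ c, m4 ρ ψ a 0 c 0)]
  have h1 : m4 ρ ψ 0 1 0 1 = 1 := by omega
  simp only [h1, mul_one] at hA2 hA4
  rw [h1] at hk
  rw [he'] at hG
  rw [he] at hG'
  have hp1 : Fintype.card K - 1 = p := by omega
  rw [hp1] at hk hA2 hA4 hG hG'
  obtain ⟨hc1, hc2, hc3⟩ := count_arith h3 (q := Fintype.card K) hp (by omega) hk hA2 hA4 hG hG'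
  by_cases hmix : ∃ c : K, c ≠ 0 ∧ m4 ρ ψ 1 0 c 0 ≠ 0
  · left
    obtain ⟨c, hc, hne⟩ := hmix
    have := row_large ρ hψ h3 hq hc hne
    rw [hp1, he] at this
    exact hc1 this
  push Not at hmix
  have hC1 : ∑ c, m4 ρ ψ 1 0 c 0 = Fintype.card K * e := by
    rw [← he]
    exact Finset.sum_eq_single (0 : K) (fun c _ hc => hmix c hc) (by simp)
  have hC2 : ∑ a, m4 ρ ψ a 0 1 0 = Fintype.card K * e' := by
    rw [← he']
    refine Finset.sum_eq_single (0 : K) (fun a _ ha => ?_) (by simp)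
    have e2 := m4_tor ρ ψ h3 1 (Units.mk0 a ha) 1 0 a 0
    simp only [zero_mul, one_mul, Units.val_mk0, Units.val_one, div_one, one_pow, one_div,
      mul_inv_cancel₀ ha] at e2
    rw [e2]
    exact hmix a ha
  by_cases hbig : 2 ≤ e ∨ 2 ≤ e'
  · exact Or.inl (hc2 hC1 hC2 hbig)
  have he1 : e = 1 := by
    rcases Nat.eq_zero_or_pos e with h0 | h0
    · rw [hC1, h0, mul_zero] at hA2; omega
    · omega
  have he1' : e' = 1 := by
    rcases Nat.eq_zero_or_pos e' with h0 | h0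
    · rw [hC2, h0, mul_zero] at hA4; omega
    · omega
  have hm0 := block_zero ρ hψ h3 (by rw [he, he1]; omega) (by rw [he', he1']; omega) (by omega)
  have := hc3 hC1 hC2 he1 he1'
  omega

end CfsgLib.Known.G2Degree
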