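/-
Lower bounds for the degrees of the irreducible representations of G₂(q).
-/
import Mathlib
import Cfsg.Agent.Lib.Known.G2Degree.QOneA
import Cfsg.Agent.Lib.Known.G2Degree.QOneB
import Cfsg.Agent.Lib.Known.G2Degree.ThreeCount
import Cfsg.Agent.Lib.Known.LieDegree.Count
import Cfsg.Agent.Lib.Chev.Orders
import Cfsg.Agent.Lib.Chev.Perfect
import Cfsg.Agent.Lib.Char.Integral

set_option autoImplicit false
set_option linter.style.haveILetI false
set_option maxRecDepth 20000

namespace CfsgLib.Known.G2Degree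

open Cfsg.Lie CfsgLib.Chev

universe v

/-- The degrees just below the bound in characteristic 3 do not divide the order. -/
theorem not_dvd_three {x k : ℤ} (hx : 81 ≤ x) (h3 : (3 : ℤ) ∣ x)
    (hk : x ^ 2 + x ≤ k + 2) (hk' : k ≤ x ^ 2 + x) (hd : k ∣ x ^ 3 * ((x - 1) * (x ^ 3 - 1))) :
    False := by
  obtain rfl | rfl | rfl : k = (x - 1) * (x + 2) ∨ k = x ^ 2 + x - 1 ∨ k = x * (x + 1) := by
    rcases (show k = x ^ 2 + x - 2 ∨ k = x ^ 2 + x - 1 ∨ k = x ^ 2 + x by omega) with h | h | h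
    · left; rw [h]; ring
    · right; left; exact h
    · right; right; rw [h]; ring
  · have hd' : x + 2 ∣ x ^ 3 * (x ^ 3 - 1) := by
      refine Int.dvd_of_mul_dvd_mul_left (a := x - 1) (by omega) ?_
      rwa [show (x - 1) * (x ^ 3 * (x ^ 3 - 1)) = x ^ 3 * ((x - 1) * (x ^ 3 - 1)) by ring]
    have h72 : x + 2 ∣ 72 := by
      obtain ⟨c, hc⟩ := hd'
      exact ⟨c - (x ^ 5 - 2 * x ^ 4 + 4 * x ^ 3 - 9 * x ^ 2 + 18 * x - 36), by linear_combination hc⟩
    have := Int.le_of_dvd (by norm_num) h72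
    omega
  · have hco : IsCoprime (x ^ 2 + x - 1) (x ^ 3) :=
      IsCoprime.pow_right ⟨-1, x + 1, by ring⟩
    obtain ⟨c, hc⟩ := hco.dvd_of_dvd_mul_left hd
    have h : x ^ 2 + x - 1 ∣ 6 * x - 4 := ⟨-c + (x ^ 2 - 2 * x + 3), by linear_combination -hc⟩
    have := Int.le_of_dvd (by omega) h
    nlinarith
  · have hd' : x + 1 ∣ x ^ 2 * ((x - 1) * (x ^ 3 - 1)) := by
      refine Int.dvd_of_mul_dvd_mul_left (a := x) (by omega) ?_
      rwa [show x * (x ^ 2 * ((x - 1) * (x ^ 3 - 1))) = x ^ 3 * ((x - 1) * (x ^ 3 - 1)) by ring]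
    have h4 : x + 1 ∣ 4 := by
      obtain ⟨c, hc⟩ := hd'
      exact ⟨c - (x ^ 5 - 2 * x ^ 4 + 2 * x ^ 3 - 3 * x ^ 2 + 4 * x - 4), by linear_combination hc⟩
    have := Int.le_of_dvd (by norm_num) h4
    omega

/-- The lower bounds. -/
theorem le_dim_irr {F : Type v} [Field F] [Fintype F] {k : ℕ}
    (ρ : Representation ℂ ↥(chevG2.group F) (Fin k → ℂ)) (hirr : ρ.IsIrreducible) (hk : 2 ≤ k) :
    (Fintype.card F % 3 = 1 → 4 < Fintype.card F → Fintype.card F ^ 3 + 1 ≤ k) ∧
    (Fintype.card F % 3 = 2 → 2 < Fintype.card F → Fintype.card F ^ 3 - 1 ≤ k) ∧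
    (Fintype.card F % 3 = 0 → 3 < Fintype.card F →
      Fintype.card F ^ 4 + Fintype.card F ^ 2 + 1 ≤ k) := by
  classical
  haveI := hirr
  letI := Fintype.ofFinite ↥(chevG2.group F)
  obtain ⟨p, hpc⟩ := CharP.exists F
  obtain ⟨n, hp, hn⟩ := FiniteField.card F p
  have hfr : Module.finrank ℂ (Fin k → ℂ) = k := Module.finrank_fin_fun ℂ
  have hdiv : k ∣ Fintype.card F ^ 6 * ((Fintype.card F ^ 2 - 1) * (Fintype.card F ^ 6 - 1)) := by
    have h := CfsgLib.Char.degree_dvd_card' ρ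
    rwa [hfr, ← one_mul (Nat.card ↥(chevG2.group F)), order_G2, Nat.card_eq_fintype_card] at h
  obtain ⟨ψ, hψ⟩ : ∃ ψ : AddChar F ℂ, ψ ≠ 1 := by
    have : 1 < Fintype.card (AddChar F ℂ) := by rw [AddChar.card_eq]; exact Fintype.one_lt_card
    exact Fintype.exists_ne_of_one_lt_card this 1
  have hinj : 2 < Fintype.card F → ∀ g, (∀ v, ρ g v = v) → g = 1 := fun h2 g hg => by
    have hperf : commutator ↥(chevG2.group F) = ⊤ := by
      refine perfect_of_unitPairing good_G2 unitPairing_G2 ?_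
      by_contra! h
      have hsub : (Finset.univ : Finset F) ⊆ {0, 1} := fun a _ => by
        simp only [Finset.mem_insert, Finset.mem_singleton]
        by_cases ha : a = 0
        · exact Or.inl ha
        · exact Or.inr (h a ha)
      have := (Finset.card_le_card hsub).trans Finset.card_le_two
      rw [Finset.card_univ] at this
      omega
    haveI := (simple_of_perfect good_G2 linked_G2 hperf).1
    refine LieDegree.injective_of_simple ρ hirr hk ?_
    rw [map_one]
    exact LinearMap.ext hg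
  have three : Fintype.card F % 3 ≠ 0 → (3 : F) ≠ 0 := fun hm h => hm (by
    have hp3 : p = 3 := by
      have : p ∣ 3 := (CharP.cast_eq_zero_iff F p 3).1 (by exact_mod_cast h)
      exact (Nat.prime_dvd_prime_iff_eq hp Nat.prime_three).1 this
    rw [hn, hp3]
    exact Nat.mod_eq_zero_of_dvd (dvd_pow_self 3 n.pos.ne'))
  refine ⟨fun hm hq => ?_, fun hm hq => ?_, fun hm hq => ?_⟩
  · have h3 := three (by omega)
    by_contra hlt
    have hq7 : 7 ≤ Fintype.card F := by
      omega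
    have hle : Module.finrank ℂ (Fin k → ℂ) ≤ Fintype.card F ^ 3 := by omega
    obtain ⟨h1, ha, hsum, hlo, hhi⟩ := small_case ρ hψ (hinj (by omega)) h3 hq7 hle
    rcases (show m3 ρ ψ 0 0 0 = Fintype.card F - 1 ∨ m3 ρ ψ 0 0 0 = Fintype.card F by omega) with h | h
    · have : Fact (Nat.Prime 3) := ⟨Nat.prime_three⟩
      obtain ⟨ω, hω⟩ := exists_prime_orderOf_dvd_card (G := Fˣ) 3
        (by rw [Fintype.card_units]; omega)
      refine not_cube_sub_one ρ hψ h3 hq7 h1 h (by omega) (ω := ω) (by rw [← hω, pow_orderOf_eq_one])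
        fun e => ?_
      rw [e, orderOf_one] at hω
      omega
    · exact not_cube ρ hψ h3 (by omega) h1 ha h (by omega)
  · have hq5 : 5 ≤ Fintype.card F := by omega
    have := bound_two ρ hψ (hinj (by omega)) (three (by omega)) hq5
    omega
  · have h3p : p = 3 := by
      have h : 3 ∣ p ^ (n : ℕ) := hn ▸ Nat.dvd_of_mod_eq_zero hm
      exact ((Nat.prime_dvd_prime_iff_eq Nat.prime_three hp).1 (Nat.prime_three.dvd_of_dvd_pow h)).symm
    subst h3p
    have h3 : (3 : F) = 0 := by exact_mod_cast CharP.cast_eq_zero F 3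
    have hn2 : 2 ≤ (n : ℕ) := by
      by_contra h
      rw [hn, show (n : ℕ) = 1 by have := n.pos; omega] at hq
      omega
    have hq9 : 9 ≤ Fintype.card F := by
      rw [hn]
      exact Nat.pow_le_pow_right (show 0 < 3 by norm_num) hn2
    rcases bound_three ρ hψ h3 hq9 (hinj (by omega)) with h | ⟨h1, h2⟩
    · omega
    · exfalso
      rw [hfr] at h1 h2
      have h81 : (81 : ℤ) ≤ (Fintype.card F : ℤ) ^ 2 := by exact_mod_cast Nat.pow_le_pow_left hq9 2
      refine not_dvd_three (x := (Fintype.card F : ℤ) ^ 2) (k := (k : ℤ)) h81 ?_ ?_ ?_ ?_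
      · exact dvd_pow (by exact_mod_cast Nat.dvd_of_mod_eq_zero hm) two_ne_zero
      · rw [← pow_mul]; exact_mod_cast h1
      · rw [← pow_mul]; exact_mod_cast h2
      · have hd := Int.natCast_dvd_natCast.2 hdiv
        push_cast [Nat.cast_sub (Nat.one_le_pow 2 _ (by omega : 0 < Fintype.card F)),
          Nat.cast_sub (Nat.one_le_pow 6 _ (by omega : 0 < Fintype.card F))] at hd
        convert hd using 2 <;> ring

end CfsgLib.Known.G2Degree
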